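import Cfsg.Agent.Lib.InvChar.Fi23Inv.Close
import Cfsg.Agent.Lib.InvChar.Fi22Inv.Main
import Cfsg.Agent.Lib.InvChar.SporFi22Trans
import Cfsg.Agent.Lib.Classical.UnitaryGen

/-!
The hypotheses of the recognition theorems in the form of `Cen`, and the class of transpositions
of the presented group of type M(22).
-/

set_option autoImplicit false

namespace CfsgLib.InvChar.Fi23Inv

open CfsgLib.Trans3 CfsgLib.Trans3.Fi
open scoped commutatorElement

theorem cen_of_hyp {G : Type*} [Group G] [Finite G] {d : G} (hd : orderOf d = 2)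
    (hq : Cfsg.IsQuasisimple ↥(Subgroup.centralizer ({d} : Set G)))
    [((Subgroup.zpowers d).subgroupOf (Subgroup.centralizer ({d} : Set G))).Normal]
    (htype : ∃ E : Set (↥(Subgroup.centralizer ({d} : Set G)) ⧸
      (Subgroup.zpowers d).subgroupOf (Subgroup.centralizer ({d} : Set G))),
      Cfsg.IsThreeTranspositionClass E ∧ Cfsg.IsOfTypeM22 _ E)
    (hnwc : ∃ g : G, g * d * g⁻¹ ∈ Subgroup.centralizer ({d} : Set G) ∧ g * d * g⁻¹ ≠ d) :
    Cen d := by
  obtain ⟨E, hE, hM⟩ := htype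
  have hC := dcov_centralizer (d := d) hd
  have hcen : (Subgroup.zpowers d).subgroupOf (Subgroup.centralizer ({d} : Set G)) =
      Subgroup.center ↥(Subgroup.centralizer ({d} : Set G)) := by
    refine le_antisymm (fun x hx => ?_) fun x hx => ?_
    · rcases (hC.ker x).1 ((QuotientGroup.eq_one_iff x).2 hx) with rfl | rfl
      · exact one_mem _
      · exact Subgroup.mem_center_iff.2 fun y => (hC.central y).eq
    · have : (QuotientGroup.mk' ((Subgroup.zpowers d).subgroupOf (Subgroup.centralizer ({d} : Set G)))) x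
          ∈ Subgroup.center _ := Subgroup.mem_center_iff.2 fun y => by
        obtain ⟨y', rfl⟩ := hC.surj y
        rw [← map_mul, ← map_mul, Subgroup.mem_center_iff.1 hx y']
      rw [hM.1, Subgroup.mem_bot] at this
      exact (QuotientGroup.eq_one_iff x).1 this
  refine ⟨hd, hq, ⟨QuotientGroup.quotientMulEquivOfEq hcen '' E, class_congr _ rfl hE,
    m22_congr _ rfl hM⟩, fun u hu => ?_, hnwc⟩
  rw [← hcen] at hu
  exact ((hC.ker u).1 ((QuotientGroup.eq_one_iff u).2 hu)).imp (congrArg Subtype.val)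
    (congrArg Subtype.val)

/-- A double cover without a complement of a simple nonabelian group is perfect. -/
theorem perfect_of_cover {H : Type*} [Group H] (h2 : Nat.card (Subgroup.center H) = 2)
    (hs : ∀ L : Subgroup H, ¬ (Subgroup.center H).IsComplement' L)
    [IsSimpleGroup (H ⧸ Subgroup.center H)]
    (hna : ∃ x y : H ⧸ Subgroup.center H, ¬ Commute x y) : _root_.commutator H = ⊤ := by
  have hsup : _root_.commutator H ⊔ Subgroup.center H = ⊤ := by
    by_contra hne
    haveI : (Subgroup.center H).Normal := inferInstance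
    have hbot : (_root_.commutator H).map (QuotientGroup.mk' (Subgroup.center H)) = ⊥ := by
      refine ((Subgroup.Normal.map inferInstance _ (QuotientGroup.mk'_surjective _)).eq_bot_or_eq_top
        ).resolve_right fun e => hne ?_
      have := congrArg (Subgroup.comap (QuotientGroup.mk' (Subgroup.center H))) e
      rwa [Subgroup.comap_map_eq, QuotientGroup.ker_mk', Subgroup.comap_top] at this
    obtain ⟨x, y, hxy⟩ := hna
    obtain ⟨u, rfl⟩ := QuotientGroup.mk'_surjective _ x
    obtain ⟨v, rfl⟩ := QuotientGroup.mk'_surjective _ y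
    have hm : QuotientGroup.mk' (Subgroup.center H) ⁅u, v⁆ ∈
        (_root_.commutator H).map (QuotientGroup.mk' (Subgroup.center H)) :=
      Subgroup.mem_map_of_mem _ (by
        rw [_root_.commutator_def]
        exact Subgroup.commutator_mem_commutator (Subgroup.mem_top u) (Subgroup.mem_top v))
    rw [hbot, Subgroup.mem_bot, map_commutatorElement, commutatorElement_eq_one_iff_mul_comm] at hm
    exact hxy hm
  by_contra hne
  haveI : Fact (Nat.Prime 2) := ⟨Nat.prime_two⟩
  refine hs (_root_.commutator H) (Subgroup.isComplement'_of_disjoint_and_mul_eq_univ ?_ ?_)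
  · rw [disjoint_iff]
    rcases Subgroup.eq_bot_or_eq_top_of_prime_card (G := ↥(Subgroup.center H))
      ((_root_.commutator H).subgroupOf (Subgroup.center H)) (hp := h2.symm ▸ inferInstance) with e | e
    · rw [Subgroup.subgroupOf_eq_bot, disjoint_comm, disjoint_iff] at e
      exact e
    · rw [Subgroup.subgroupOf_eq_top] at e
      exact absurd (by rwa [sup_eq_left.2 e] at hsup) hne
  · rw [← Subgroup.mul_normal, sup_comm, hsup, Subgroup.coe_top]

local notation "g₀" => (SporFi22.gen 0 : Cfsg.Spor.Fi22)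

/-- The transpositions of the presented group make it of type M(22). -/
theorem fi22_type : ∃ E : Set Cfsg.Spor.Fi22,
    Cfsg.IsThreeTranspositionClass E ∧ Cfsg.IsOfTypeM22 Cfsg.Spor.Fi22 E := by
  haveI : Finite Cfsg.Spor.Fi22 := SporFi22.card_le.1
  obtain ⟨hc, ⟨e⟩, hs⟩ := SporFi22.centralizer_transposition _ (mem_conjugatesOf_self (a := g₀))
  haveI : IsSimpleGroup (Cfsg.PSU 6 FQ4 2) := CfsgLib.Classical.isSimpleGroup_psu (n := 6) (F := FQ4)
    (q := 2) SporFi22U6.hF (by norm_num) (by omega)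
  haveI := e.isSimpleGroup
  have hU' : IsU6 (↥(Subgroup.centralizer ({g₀} : Set Cfsg.Spor.Fi22)) ⧸
      Subgroup.center ↥(Subgroup.centralizer ({g₀} : Set Cfsg.Spor.Fi22))) :=
    ⟨FQ4, _, _, FQ4.card_eq, ⟨e⟩⟩
  obtain ⟨D, hD⟩ := u6_exists_group hU'
  obtain ⟨x, -, y, -, hxy⟩ := (u6Facts hU' hD).pair
  have hperf := perfect_of_cover hc hs ⟨x, y, hxy⟩
  have hd := SporFi22.orderOf_gen_zero
  have hzc : (⟨g₀, Subgroup.mem_centralizer_singleton_iff.2 rfl⟩ :
      ↥(Subgroup.centralizer ({g₀} : Set Cfsg.Spor.Fi22))) ∈ Subgroup.center _ :=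
    Subgroup.mem_center_iff.2 fun u => Subtype.ext (Subgroup.mem_centralizer_singleton_iff.1 u.2)
  have hcen : ∀ u ∈ Subgroup.center ↥(Subgroup.centralizer ({g₀} : Set Cfsg.Spor.Fi22)),
      (u : Cfsg.Spor.Fi22) = 1 ∨ (u : Cfsg.Spor.Fi22) = g₀ := by
    intro u hu
    obtain ⟨w, -, huniq⟩ := (Nat.card_eq_two_iff' (1 : ↥(Subgroup.center
      ↥(Subgroup.centralizer ({g₀} : Set Cfsg.Spor.Fi22))))).1 hc
    refine or_iff_not_imp_left.2 fun hu1 => ?_
    have e1 := huniq ⟨u, hu⟩ fun e => hu1 (congrArg Subtype.val (congrArg Subtype.val e))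
    have e2 := huniq ⟨_, hzc⟩ fun e => invol_ne_one hd (congrArg Subtype.val (congrArg Subtype.val e))
    exact congrArg Subtype.val (congrArg Subtype.val (e1.trans e2.symm))
  have hU : IsU6 (↥(Subgroup.centralizer ({g₀} : Set Cfsg.Spor.Fi22)) ⧸
      Subgroup.center ↥(Subgroup.centralizer ({g₀} : Set Cfsg.Spor.Fi22))) :=
    ⟨FQ4, _, _, FQ4.card_eq, ⟨e⟩⟩
  have hnwc : ∃ g : Cfsg.Spor.Fi22, g * g₀ * g⁻¹ ∈
      Subgroup.centralizer ({g₀} : Set Cfsg.Spor.Fi22) ∧ g * g₀ * g⁻¹ ≠ g₀ := by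
    refine ⟨(SporFi22.gen 1 * SporFi22.gen 2 * g₀ * SporFi22.gen 1 : Cfsg.Spor.Fi22), ?_, ?_⟩
    · rw [SporFi22.step_six, Subgroup.mem_centralizer_singleton_iff]
      have h2 : (SporFi22.gen 2 : Cfsg.Spor.Fi22)⁻¹ = SporFi22.gen 2 :=
        inv_eq_of_mul_eq_one_right (SporFi22.gen_mul_self 2)
      have h0 : (g₀)⁻¹ = g₀ := inv_eq_of_mul_eq_one_right (SporFi22.gen_mul_self 0)
      have := inv_eq_of_mul_eq_one_right ((pow_two _).symm.trans SporFi22.comm02)
      rwa [mul_inv_rev, h2, h0] at this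
    · rw [SporFi22.step_six]
      exact SporFi22.gen_ne 2 0 (by norm_num) (by norm_num) ⟨1, by decide +kernel⟩ (by decide +kernel)
  exact ⟨_, (Fi22Inv.class_m22 ⟨hd, hperf, hU, hcen, hnwc⟩).1, (Fi22Inv.class_m22 ⟨hd, hperf, hU, hcen, hnwc⟩).2.1⟩

end CfsgLib.InvChar.Fi23Inv
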