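import Cfsg.Agent.Lib.InvChar.Fi23Inv.Edge
import Cfsg.Agent.Lib.InvChar.Fi22Inv.Close
import Cfsg.Agent.Lib.Trans3.Fi.M23Order
import Cfsg.Agent.Lib.Trans3.Fi.TypeTransport

/-!
The component is the whole class.
-/

set_option autoImplicit false
set_option linter.unusedSectionVars false

namespace CfsgLib.InvChar.Fi23Inv

open CfsgLib.Trans3 CfsgLib.Trans3.Fi
open CfsgLib.InvChar.Fi22Inv (Adj Comp adj_symm comp_mem comp_symm compSet zpow_mul_left_mem)
open CfsgLib.Invol (zpow_conj_left right_eq left_mul_zpow conj_pow_inv conj_left_mul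
  orderOf_pow_half commute_pow_half_left commute_pow_half_right exists_conj_of_odd isConj_of_odd
  eq_one_of_sq_of_odd)

variable {G : Type*} [Group G] [Finite G] {d : G} (h : Cen d)
include h

/-- The relation propagates through the neighbourhood. -/
theorem invert_spread {o p q r x : G} (ho : o ∈ conjugatesOf d) (hp : p ∈ Comp d o)
    (hq : q ∈ nbrs (conjugatesOf d) p) (hr : r ∈ nbrs (conjugatesOf d) p) (hx : Odd (orderOf x))
    (ip : p * x * p = x⁻¹) (iq : q * x * q = x⁻¹) : r * x * r = x⁻¹ := by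
  have step : ∀ {p q r : G}, p ∈ Comp d o → q ∈ nbrs (conjugatesOf d) p →
      r ∈ nbrs (conjugatesOf d) p → Commute r q → p * x * p = x⁻¹ → q * x * q = x⁻¹ →
      r * x * r = x⁻¹ := by
    intro p q r hp hq hr crq ip iq
    by_cases e : r = q
    · exact e ▸ iq
    refine (edge_core h ho hp hq).2 r hr crq e x hx ?_ ip
    have sp := loc_sq h (comp_mem ho hp)
    have sq' := loc_sq h hq.1
    have h2 : q * x⁻¹ * q = x := by
      have := congrArg (fun z => z⁻¹) iq
      simpa [mul_inv_rev, invol_inv (cen_of_mem h hq.1).ord, mul_assoc] using this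
    have h1 : p * q * x * (p * q)⁻¹ = x := by
      rw [mul_inv_rev, invol_inv (cen_of_mem h hq.1).ord, invol_inv (cen_of_mem h (comp_mem ho hp)).ord,
        show p * q * x * (q * p) = p * (q * x * q) * p by group, iq]
      have := congrArg (fun z => z⁻¹) ip
      simpa [mul_inv_rev, invol_inv (cen_of_mem h (comp_mem ho hp)).ord, mul_assoc] using this
    exact (mul_inv_eq_iff_eq_mul.1 h1).symm
  by_cases crq : Commute r q
  · exact step hp hq hr crq ip iq
  have hpm := comp_mem ho hp
  obtain ⟨q', mA, c1, c2⟩ := (loc_lvl h hpm).common _ _ (bar_mem hq) (bar_mem hr)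
    fun e => crq ((loc_commute h hpm hq hr).1 e).symm
  obtain ⟨s, hs, rfl⟩ := exists_bar mA
  have csq : Commute s q := (loc_commute h hpm hs hq).1 c1
  have crs : Commute r s := ((loc_commute h hpm hs hr).1 c2).symm
  exact step hp hs hr crs ip (step hp hq hs csq ip iq)

/-- An element of odd order inverted by two adjacent members is trivial. -/
theorem invert_trivial {o a b x : G} (ho : o ∈ conjugatesOf d) (ha : a ∈ Comp d o)
    (hb : b ∈ nbrs (conjugatesOf d) a) (hx : Odd (orderOf x)) (hxi : Commute x (a * b))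
    (hax : a * x * a = x⁻¹) : x = 1 := by
  have sa := loc_sq h (comp_mem ho ha)
  have sb := loc_sq h hb.1
  have hbx : b * x * b = x⁻¹ := by
    calc b * x * b = a * (a * b * x) * b := by rw [← mul_assoc a, ← mul_assoc a, sa, one_mul]
      _ = a * (x * (a * b)) * b := by rw [hxi.eq]
      _ = a * x * a * (b * b) := by group
      _ = x⁻¹ := by rw [sb, mul_one, hax]
  have hall : ∀ p ∈ Comp d o, p * x * p = x⁻¹ := by
    intro p hp
    have hap : p ∈ Comp d a := (comp_symm ho ha).trans hp
    suffices p * x * p = x⁻¹ ∧ ∃ q ∈ nbrs (conjugatesOf d) p, q * x * q = x⁻¹ from this.1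
    clear hp
    induction hap with
    | refl => exact ⟨hax, b, hb, hbx⟩
    | @tail u v hau huv ih =>
      obtain ⟨iu, q, hq, iq⟩ := ih
      exact ⟨invert_spread h ho (ha.trans hau) hq huv hx iu iq,
        u, adj_symm (comp_mem ho (ha.trans hau)) huv, iu⟩
  haveI := m23_simple (comp_group h ho) (comp_prim h ho) (comp_m23 h ho)
  obtain ⟨K, eK⟩ : ∃ K : Subgroup ↥(Subgroup.closure (Comp d o)),
      K = (Subgroup.centralizer ({x} : Set G)).subgroupOf _ := ⟨_, rfl⟩
  have hpm : ∀ g ∈ Subgroup.closure (Comp d o), g * x * g⁻¹ = x ∨ g * x * g⁻¹ = x⁻¹ := by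
    intro g hg
    induction hg using Subgroup.closure_induction with
    | mem p hp =>
      right; rw [invol_inv (cen_of_mem h (comp_mem ho hp)).ord]; exact hall p hp
    | one => left; group
    | mul u v _ _ e1 e2 =>
      rw [show u * v * x * (u * v)⁻¹ = u * (v * x * v⁻¹) * u⁻¹ by group]
      rcases e2 with e | e <;> rw [e]
      · exact e1
      · rw [show u * x⁻¹ * u⁻¹ = (u * x * u⁻¹)⁻¹ by group]
        rcases e1 with e | e <;> rw [e]
        exacts [Or.inr rfl, Or.inl (inv_inv x)]
    | inv u _ e1 =>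
      rcases e1 with e | e
      · left; conv_lhs => arg 1; arg 2; rw [← e]
        group
      · right
        have e' : u * x⁻¹ * u⁻¹ = x := by
          rw [show u * x⁻¹ * u⁻¹ = (u * x * u⁻¹)⁻¹ by group, e, inv_inv]
        conv_lhs => arg 1; arg 2; rw [← e']
        group
  have hKn : K.Normal := by
    subst eK
    refine ⟨fun k hk g => ?_⟩
    rw [Subgroup.mem_subgroupOf, Subgroup.mem_centralizer_singleton_iff] at hk ⊢
    have hk' : Commute (k : G) x := hk
    show (g : G) * k * (g : G)⁻¹ * x = x * ((g : G) * k * (g : G)⁻¹)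
    rcases hpm _ (inv_mem g.2) with e | e <;> rw [inv_inv] at e
    · calc (g : G) * k * (g : G)⁻¹ * x = g * (k * ((g : G)⁻¹ * x * g)) * (g : G)⁻¹ := by group
        _ = g * (((g : G)⁻¹ * x * g) * k) * (g : G)⁻¹ := by rw [e, hk'.eq]
        _ = x * ((g : G) * k * (g : G)⁻¹) := by group
    · calc (g : G) * k * (g : G)⁻¹ * x = g * (k * ((g : G)⁻¹ * x * g)) * (g : G)⁻¹ := by group
        _ = g * (((g : G)⁻¹ * x * g) * k) * (g : G)⁻¹ := by rw [e, hk'.inv_right.eq]
        _ = x * ((g : G) * k * (g : G)⁻¹) := by group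
  rcases hKn.eq_bot_or_eq_top with e | e
  · exfalso
    have hab : (⟨a * b, mul_mem (Subgroup.subset_closure ha) (Subgroup.subset_closure (ha.tail hb))⟩ :
        ↥(Subgroup.closure (Comp d o))) ∈ K := by
      rw [eK, Subgroup.mem_subgroupOf, Subgroup.mem_centralizer_singleton_iff]; exact hxi.eq.symm
    rw [e, Subgroup.mem_bot] at hab
    refine hb.2.1 ?_
    rw [← inv_eq_of_mul_eq_one_right (congrArg Subtype.val hab : a * b = 1),
      invol_inv (cen_of_mem h (comp_mem ho ha)).ord]
  · have : (⟨a, Subgroup.subset_closure ha⟩ : ↥(Subgroup.closure (Comp d o))) ∈ K :=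
      e ▸ Subgroup.mem_top _
    rw [eK, Subgroup.mem_subgroupOf, Subgroup.mem_centralizer_singleton_iff] at this
    have this : a * x = x * a := this
    rw [this, mul_assoc, sa, mul_one] at hax
    refine eq_one_of_sq_of_odd ?_ hx
    nth_rewrite 1 [hax]
    exact inv_mul_cancel x

/-- The centraliser of an adjacent pair. -/
theorem pair_centralizer {o a b g : G} (ho : o ∈ conjugatesOf d) (ha : a ∈ Comp d o)
    (hb : b ∈ nbrs (conjugatesOf d) a) (hg : Commute g (a * b)) :
    g ∈ Subgroup.closure (Comp d o) := by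
  obtain ⟨m, hm, hpow⟩ := (edge_core h ho ha hb).1 g hg
  obtain ⟨u, eu⟩ : ∃ u, u = g * a * g⁻¹ := ⟨_, rfl⟩
  rw [← eu] at hpow
  have oa := (cen_of_mem h (comp_mem ho ha)).ord
  have hu : u ∈ conjugatesOf d := eu ▸ Fi22Inv.conj_mem g (comp_mem ho ha)
  have ou := (cen_of_mem h hu).ord
  have ca : Commute a (a * b) := (Commute.refl a).mul_right hb.2.2
  have cu : Commute u (a * b) := by
    rw [eu]; exact (hg.mul_left ca).mul_left hg.inv_left
  have hinv : a * (a * u) ^ 2 * a = ((a * u) ^ 2)⁻¹ := by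
    have := conj_pow_inv (conj_left_mul oa ou) 2
    rwa [invol_inv oa] at this
  have hk : (a * u) ^ 2 = 1 := invert_trivial h ho ha hb
    (Odd.of_dvd_nat hm (orderOf_dvd_of_pow_eq_one hpow))
    ((ca.mul_left cu).pow_left 2) hinv
  have hc : Commute a u := by
    show a * u = u * a
    rw [pow_two] at hk
    rw [eq_inv_of_mul_eq_one_left hk, mul_inv_rev, invol_inv oa, invol_inv ou]
  exact comp_stab h ho ha (eu ▸ comp_comm ha hu hc)

/-- A member outside has product of odd order with a member inside. -/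
theorem outside_odd {o a y : G} (ho : o ∈ conjugatesOf d) (ha : a ∈ Comp d o)
    (hy : y ∈ conjugatesOf d) (hy' : y ∉ Comp d o) : Odd (orderOf (a * y)) := by
  have hyH : y ∉ Subgroup.closure (Comp d o) := by
    intro hm
    obtain ⟨w, hw, cw⟩ := comp_fixed (comp_group h ho) (comp_prim h ho) (comp_m23 h ho)
      (x := ⟨y, hm⟩) (Subtype.ext (loc_sq h hy))
    exact hy' (comp_comm hw hy (cw.map (Subgroup.closure (Comp d o)).subtype).symm)
  have oa := (cen_of_mem h (comp_mem ho ha)).ord
  have oy := (cen_of_mem h hy).ord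
  rw [← Nat.not_even_iff_odd]
  intro heven
  obtain ⟨k, ek⟩ : ∃ k, k = (a * y) ^ (orderOf (a * y) / 2) := ⟨_, rfl⟩
  have ok : orderOf k = 2 := ek ▸ orderOf_pow_half heven
  have cka : Commute k a := ek ▸ commute_pow_half_left oa oy heven
  have cky : Commute k y := ek ▸ commute_pow_half_right oa oy heven
  have hkH : k ∈ Subgroup.closure (Comp d o) :=
    comp_centralizer h ho ha (Subgroup.mem_centralizer_singleton_iff.2 cka.eq)
  have hka : k * a ∈ conjugatesOf d := by
    have := zpow_mul_left_mem (fun g u hu => Fi22Inv.conj_mem g hu) (comp_mem ho ha) hy oa oy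
      ((orderOf (a * y) / 2 : ℕ) : ℤ)
    rwa [zpow_natCast, ← ek] at this
  have hb : k * a ∈ nbrs (conjugatesOf d) a :=
    ⟨hka, fun e => invol_ne_one ok (mul_eq_right.1 e), cka.symm.mul_right (Commute.refl a)⟩
  have e : a * (k * a) = k := by rw [← mul_assoc, ← cka.eq, mul_assoc, loc_sq h (comp_mem ho ha), mul_one]
  exact hyH (pair_centralizer h ho ha hb (by rw [e]; exact cky.symm))

/-- The centraliser of a product of three commuting members. -/
theorem triple_mem {o a b c y : G} (ho : o ∈ conjugatesOf d) (ha : a ∈ Comp d o)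
    (hb : b ∈ nbrs (conjugatesOf d) a) (hc : c ∈ nbrs (conjugatesOf d) a) (hbc : b ≠ c)
    (cbc : Commute b c) (hy : y ∈ conjugatesOf d) (hyk : Commute y (a * b * c)) : y ∈ Comp d o := by
  classical
  by_contra hyn
  have ham := comp_mem ho ha
  -- a fourth member commuting with the three
  obtain ⟨g, hg, cgb, cgc, ngb, ngc⟩ : ∃ g, g ∈ nbrs (conjugatesOf d) a ∧ Commute g b ∧
      Commute g c ∧ g ≠ b ∧ g ≠ c := by
    have hL := loc_lvl h ham
    have hPre := pre_of_group hL.group
    have nc : bar hc ∈ nbrs (Db (conjugatesOf d) a) (bar hb) :=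
      ⟨bar_mem hc, fun e => hbc (loc_bar_inj h ham hc hb e).symm, (loc_commute h ham hb hc).2 cbc⟩
    obtain ⟨q, hq, qne, cq, -, -⟩ := u6_mid (m22_isU6 hL.group (loc_m22 h ham) (bar_mem hb))
      (hL.group_Db (bar_mem hb)) (bar_mem nc) (bar_mem nc) (bar_mem nc) (Commute.refl _)
      (Commute.refl _)
    obtain ⟨p, hp, rfl⟩ := exists_bar hq
    have cpc : Commute p (bar hc) := (commute_bar hPre hp nc).1 cq
    obtain ⟨g, hg, rfl⟩ := exists_bar hp.1
    exact ⟨g, hg, (loc_commute h ham hg hb).1 hp.2.2.symm, (loc_commute h ham hg hc).1 cpc,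
      fun e => hp.2.1 (by subst e; rfl), fun e => qne (by subst e; rfl)⟩
  have conjy : ∀ p ∈ Comp d o, Commute p (a * b * c) →
      ∃ w, Commute w (a * b * c) ∧ w * p * w⁻¹ = y := by
    intro p hp hpk
    obtain ⟨w, hw, e⟩ := exists_conj_of_odd (cen_of_mem h (comp_mem ho hp)).ord (cen_of_mem h hy).ord
      (outside_odd h ho hp hy hyn)
    obtain ⟨j, rfl⟩ := hw
    exact ⟨_, (hpk.mul_left hyk).zpow_left j, e⟩
  obtain ⟨w₁, c₁, e₁⟩ := conjy a ha (((Commute.refl a).mul_right hb.2.2).mul_right hc.2.2)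
  obtain ⟨w₂, c₂, e₂⟩ := conjy g (ha.tail hg) ((hg.2.2.symm.mul_right cgb).mul_right cgc)
  have e : w₂⁻¹ * w₁ * a * (w₂⁻¹ * w₁)⁻¹ = g := by
    calc _ = w₂⁻¹ * (w₁ * a * w₁⁻¹) * w₂ := by group
      _ = w₂⁻¹ * (w₂ * g * w₂⁻¹) * w₂ := by rw [e₁, e₂]
      _ = g := by group
  have hx := comp_stab h ho ha (g := w₂⁻¹ * w₁) (by rw [e]; exact ha.tail hg)
  have hG := comp_group h ho
  have hn := fun k => m23_noRel_le hG (comp_m23 h ho) (k := k)
  obtain ⟨X, eX⟩ : ∃ X : ↥(Subgroup.closure (Comp d o)), X = ⟨_, hx⟩ := ⟨_, rfl⟩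
  obtain ⟨A, eA⟩ : ∃ A : ↥(Subgroup.closure (Comp d o)), A = ⟨a, Subgroup.subset_closure ha⟩ := ⟨_, rfl⟩
  obtain ⟨B, eB⟩ : ∃ B : ↥(Subgroup.closure (Comp d o)),
      B = ⟨b, Subgroup.subset_closure (ha.tail hb)⟩ := ⟨_, rfl⟩
  obtain ⟨C, eC⟩ : ∃ C : ↥(Subgroup.closure (Comp d o)),
      C = ⟨c, Subgroup.subset_closure (ha.tail hc)⟩ := ⟨_, rfl⟩
  have hA : (A : G) = a := by rw [eA]
  have hB : (B : G) = b := by rw [eB]
  have hC : (C : G) = c := by rw [eC]
  have hbase : Fac (compSet d o) 3 (A * B * C) [A, B, C] := by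
    refine ⟨?_, rfl, ?_, ?_, by simp [mul_assoc]⟩
    · simp only [List.nodup_cons, List.mem_cons, List.not_mem_nil, or_false, not_or, List.nodup_nil,
        and_true, not_false_iff, ← Subtype.coe_inj, hA, hB, hC]
      exact ⟨⟨Ne.symm hb.2.1, Ne.symm hc.2.1⟩, hbc⟩
    · intro u hu
      show (u : G) ∈ Comp d o
      simp only [List.mem_cons, List.not_mem_nil, or_false] at hu
      rcases hu with rfl | rfl | rfl
      · rwa [hA]
      · rw [hB]; exact ha.tail hb
      · rw [hC]; exact ha.tail hc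
    · have cAB : Commute A B := Subtype.ext (by simpa [hA, hB] using hb.2.2.eq)
      have cAC : Commute A C := Subtype.ext (by simpa [hA, hC] using hc.2.2.eq)
      have cBC : Commute B C := Subtype.ext (by simpa [hB, hC] using cbc.eq)
      simp [cAB, cAB.symm, cAC, cAC.symm, cBC, cBC.symm]
  have hXk : MulAut.conj X (A * B * C) = A * B * C := by
    refine Subtype.ext ?_
    rw [MulAut.conj_apply, eX]
    simp only [Subgroup.coe_mul, Subgroup.coe_inv, hA, hB, hC]
    exact mul_inv_eq_iff_eq_mul.2 (c₂.inv_left.mul_left c₁).eq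
  have hl : Fac (compSet d o) 3 (A * B * C) ([A, B, C].map (MulAut.conj X)) := by
    obtain ⟨h1, -, h3, h4, h5⟩ := hbase
    refine ⟨h1.map (MulAut.conj X).injective, rfl, fun u hu => ?_, fun u hu v hv => ?_, ?_⟩
    · obtain ⟨w, hw, rfl⟩ := List.mem_map.1 hu
      exact hG.2.1 X w (h3 w hw)
    · obtain ⟨w, hw, rfl⟩ := List.mem_map.1 hu
      obtain ⟨z, hz, rfl⟩ := List.mem_map.1 hv
      exact (h4 w hw z hz).map (MulAut.conj X).toMonoidHom
    · rw [← map_list_prod, h5, hXk]
  have hmem := (determined hG (m := 3) le_rfl (fun _ => hn 4 (by norm_num) (by norm_num))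
    (fun _ => hn 6 (by norm_num) (by norm_num)) hl hbase (MulAut.conj X A)).1
    (List.mem_map_of_mem List.mem_cons_self)
  have hval : ((MulAut.conj X A : ↥(Subgroup.closure (Comp d o))) : G) = g := by
    rw [eX, eA]; exact e
  simp only [List.mem_cons, List.not_mem_nil, or_false] at hmem
  rcases hmem with e' | e' | e' <;> rw [e'] at hval
  · exact hg.2.1 (hval.symm.trans hA)
  · exact ngb (hval.symm.trans hB)
  · exact ngc (hval.symm.trans hC)

/-- The component is the class. -/
theorem comp_all {o : G} (ho : o ∈ conjugatesOf d) :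
    Comp d o = conjugatesOf d ∧ Subgroup.closure (Comp d o) = ⊤ := by
  have key : Comp d o = conjugatesOf d := by
    refine Set.Subset.antisymm (fun x hx => comp_mem ho hx) fun y hy => ?_
    by_contra hyn
    obtain ⟨q, hq⟩ : ∃ q, q ∈ Db (conjugatesOf d) o := by
      obtain ⟨u, hu, -⟩ := (loc_lvl h ho).pair
      exact ⟨u, hu⟩
    obtain ⟨b, hb, rfl⟩ := exists_bar hq
    have oy := (cen_of_mem h hy).ord
    have hne : o * b ≠ 1 := fun e => hb.2.1 (by
      rw [← inv_eq_of_mul_eq_one_right e, invol_inv (cen_of_mem h ho).ord])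
    have ox : orderOf (o * b) = 2 := by
      refine CfsgLib.Invol.invol_of_mul_self ?_ hne
      rw [show o * b * (o * b) = o * (b * o) * b by group, ← hb.2.2.eq,
        show o * (o * b) * b = o * o * (b * b) by group, loc_sq h ho, loc_sq h hb.1, one_mul]
    by_cases hodd : Odd (orderOf (o * b * y))
    · refine pair_not_mem h ho hb ?_
      exact (show IsConj d y from hy).trans (isConj_of_odd ox oy hodd).symm
    rw [Nat.not_odd_iff_even] at hodd
    obtain ⟨k, ek⟩ : ∃ k, k = (o * b * y) ^ (orderOf (o * b * y) / 2) := ⟨_, rfl⟩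
    have ok : orderOf k = 2 := ek ▸ orderOf_pow_half hodd
    have ckx : Commute k (o * b) := ek ▸ commute_pow_half_left ox oy hodd
    have cky : Commute k y := ek ▸ commute_pow_half_right ox oy hodd
    have hk := pair_centralizer h ho Relation.ReflTransGen.refl hb ckx
    obtain ⟨m, l, h1, h3, ⟨hn, hlen, hmem, hco, hpr⟩⟩ := m23_invol (comp_group h ho) (comp_prim h ho)
      (comp_m23 h ho) (x := ⟨k, hk⟩) (fun e => invol_ne_one ok (congrArg Subtype.val e))
      (Subtype.ext (invol_mul_self ok))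
    have hmk : ∀ {u v : ↥(Subgroup.closure (Comp d o))}, u ∈ l → v ∈ l → v ≠ u →
        (v : G) ∈ nbrs (conjugatesOf d) u := fun hu hv hne =>
      ⟨comp_mem ho (hmem _ hv), fun e => hne (Subtype.ext e),
        (hco _ hu _ hv).map (Subgroup.closure (Comp d o)).subtype⟩
    obtain rfl | rfl | rfl : m = 1 ∨ m = 2 ∨ m = 3 := by omega
    · obtain ⟨u, rfl⟩ := List.length_eq_one_iff.1 hlen
      have e : (u : G) = k := by
        have := congrArg Subtype.val hpr
        simpa using this
      exact hyn (comp_comm (hmem u (by simp)) hy (e ▸ cky))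
    · obtain ⟨u, v, rfl⟩ := List.length_eq_two.1 hlen
      have hne : v ≠ u := by simpa [eq_comm] using hn
      have e : (u : G) * v = k := by
        have := congrArg Subtype.val hpr
        simpa using this
      have hu : (u : G) ∈ Comp d o := hmem u (by simp)
      have hyH := pair_centralizer h ho hu (hmk (by simp) (by simp) hne) (e.symm ▸ cky.symm)
      obtain ⟨w, hw, cw⟩ := comp_fixed (comp_group h ho) (comp_prim h ho) (comp_m23 h ho)
        (x := ⟨y, hyH⟩) (Subtype.ext (loc_sq h hy))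
      exact hyn (comp_comm hw hy (cw.map (Subgroup.closure (Comp d o)).subtype).symm)
    · obtain ⟨u, v, w, rfl⟩ := List.length_eq_three.1 hlen
      simp only [List.nodup_cons, List.mem_cons, List.not_mem_nil, or_false, not_or] at hn
      have e : (u : G) * v * w = k := by
        have := congrArg Subtype.val hpr
        simpa [mul_assoc] using this
      exact hyn (triple_mem h ho (hmem u (by simp)) (hmk (by simp) (by simp) (Ne.symm hn.1.1))
        (hmk (by simp) (by simp) (Ne.symm hn.1.2)) (fun e' => hn.2.1 (Subtype.ext e'))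
        ((hco v (by simp) w (by simp)).map (Subgroup.closure (Comp d o)).subtype) hy
        (e.symm ▸ cky.symm))
  refine ⟨key, eq_top_iff.2 fun g _ => comp_stab h ho Relation.ReflTransGen.refl ?_⟩
  rw [key]; exact Fi22Inv.conj_mem g ho

/-- The class is a class of 3-transpositions of type M(23). -/
theorem class_m23 :
    Cfsg.IsThreeTranspositionClass (conjugatesOf d) ∧ Cfsg.IsOfTypeM23 G (conjugatesOf d) ∧
      Cfsg.IsPrimitiveUnderConj (conjugatesOf d) := by
  have hd0 : d ∈ conjugatesOf d := mem_conjugatesOf_self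
  obtain ⟨hC, hH⟩ := comp_all h hd0
  let e : ↥(Subgroup.closure (Comp d d)) ≃* G :=
    (MulEquiv.subgroupCongr hH).trans Subgroup.topEquiv
  have he : e '' compSet d d = conjugatesOf d := by
    ext x
    refine ⟨fun ⟨u, hu, e'⟩ => e' ▸ hC ▸ hu, fun hx => ?_⟩
    have hx' : x ∈ Comp d d := hC.symm ▸ hx
    exact ⟨⟨x, Subgroup.subset_closure hx'⟩, hx', rfl⟩
  refine ⟨⟨?_, ⟨d, hd0, rfl⟩, ?_⟩, m23_congr e he (comp_m23 h hd0),
    he ▸ CfsgLib.Trans3.Fi.Transport.prim_image e (comp_prim h hd0)⟩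
  · exact hC ▸ comp_set h hd0
  · rw [← hC, hH]

end CfsgLib.InvChar.Fi23Inv
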