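import Cfsg.Agent.Lib.InvChar.Fi23Inv.Link
import Cfsg.Agent.Lib.Trans3.RankThree

/-!
A component of the commuting graph on the conjugates of the involution: any two members are at
distance at most two, so it is a class of 3-transpositions of the subgroup it generates, and this
subgroup acts primitively on it.
-/

set_option autoImplicit false
set_option linter.unusedSectionVars false

namespace CfsgLib.InvChar.Fi23Inv

open CfsgLib.Trans3 CfsgLib.Trans3.Fi
open CfsgLib.InvChar.Fi22Inv (Adj Comp adj_symm comp_mem comp_symm adj_conj comp_conj line_perp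
  nbrs_centralizer nbrs_conj' conj_mem)

/-- For non-commuting `u`, `v` in a group of type M(22): a neighbour of `v` not commuting with `u`. -/
theorem exists_perp_not {X : Type*} [Group X] [Finite X] {E : Set X} (hL : Lvl E)
    (hM : Cfsg.IsOfTypeM22 X E) {u v : X} (hu : u ∈ E) (hv : v ∈ E) (huv : ¬ Commute u v) :
    ∃ q ∈ E, q ≠ v ∧ Commute q v ∧ ¬ Commute u q := by
  obtain ⟨r, hr, ru, rv⟩ := hL.common u v hu hv huv
  have hg := hL.group
  have hPre := pre_of_group hg
  have nu : u ∈ nbrs E r := ⟨hu, fun e => huv (e ▸ rv), ru⟩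
  have nv : v ∈ nbrs E r := ⟨hv, fun e => huv (e ▸ ru.symm), rv⟩
  have hU := m22_isU6 hg hM hr
  have hgr := hL.group_Db hr
  have nuv : ¬ Commute (bar nu) (bar nv) := fun e => huv ((commute_bar hPre nu nv).1 e)
  obtain ⟨w, hw, wv, cwv, -, -⟩ := u6_mid hU hgr (bar_mem nv) (bar_mem nv) (bar_mem nv)
    (Commute.refl _) (Commute.refl _)
  obtain ⟨T, hT, T1, T2, T3⟩ : ∃ T ∈ Db E r, T ≠ bar nv ∧ Commute T (bar nv) ∧
      ¬ Commute (bar nu) T := by
    by_cases cw : Commute (bar nu) w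
    · obtain ⟨t, ht, t1, t2, -, t4⟩ := line_perp (u6Facts hU hgr) (bar_mem nv) hw (bar_mem nu)
        (Ne.symm wv) cwv.symm cw nuv
      exact ⟨t, ht, t1, t2, t4⟩
    · exact ⟨w, hw, wv, cwv, cw⟩
  obtain ⟨t, ht, rfl⟩ := exists_bar hT
  exact ⟨t, ht.1, fun e => T1 (by subst e; rfl), (commute_bar hPre ht nv).1 T2,
    fun e => T3 ((commute_bar hPre nu ht).2 e)⟩

variable {G : Type*} [Group G] [Finite G] {d : G} (h : Cen d)
include h

/-- A further member commuting with two adjacent members. -/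
theorem exists_third {a b : G} (ha : a ∈ conjugatesOf d) (hb : b ∈ nbrs (conjugatesOf d) a) :
    ∃ x, x ∈ nbrs (conjugatesOf d) a ∧ x ∈ nbrs (conjugatesOf d) b := by
  obtain ⟨q, hq, qne, qb, -, -⟩ := (loc_lvl h ha).mid _ _ _ (bar_mem hb) (bar_mem hb) (bar_mem hb)
    (Commute.refl _) (Commute.refl _)
  obtain ⟨x, hx, rfl⟩ := exists_bar hq
  exact ⟨x, hx, hx.1, fun e => qne (by subst e; rfl), ((loc_commute h ha hx hb).1 qb).symm⟩

/-- Distance at most two. -/
theorem comp_two {a x : G} (ha : a ∈ conjugatesOf d) (hx : x ∈ Comp d a) :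
    x = a ∨ Adj d a x ∨ ∃ b, Adj d a b ∧ Adj d b x := by
  induction hx with
  | refl => exact Or.inl rfl
  | @tail c e hac hce ih =>
    rcases ih with rfl | h1 | ⟨b, hab, hbc⟩
    · exact Or.inr (Or.inl hce)
    · exact Or.inr (Or.inr ⟨c, h1, hce⟩)
    by_cases hca : c = a
    · subst hca; exact Or.inr (Or.inl hce)
    by_cases cac : Commute a c
    · exact Or.inr (Or.inr ⟨c, ⟨hbc.1, hca, cac⟩, hce⟩)
    obtain ⟨y, hya, hyc, hye⟩ := link h (adj_symm ha hab) hbc cac hce hab.1
    by_cases e' : y = e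
    · exact Or.inr (Or.inl (e' ▸ hya))
    · exact Or.inr (Or.inr ⟨y, hya, hce.1, Ne.symm e', hye⟩)

theorem comp_prod {a x y : G} (ha : a ∈ conjugatesOf d) (hx : x ∈ Comp d a) (hy : y ∈ Comp d a) :
    (x * y) ^ 2 = 1 ∨ (x * y) ^ 3 = 1 := by
  have hxm := comp_mem ha hx
  rcases comp_two h hxm ((comp_symm ha hx).trans hy) with rfl | e | ⟨b, hxb, hby⟩
  · left; rw [invol_mul_self (cen_of_mem h hxm).ord, one_pow]
  · left
    rw [e.2.2.mul_pow, pow_two, pow_two, invol_mul_self (cen_of_mem h hxm).ord,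
      invol_mul_self (cen_of_mem h e.1).ord, one_mul]
  · exact loc_prod h hxb.1 (adj_symm hxm hxb) hby

theorem comp_centralizer {a x : G} (ha : a ∈ conjugatesOf d) (hx : x ∈ Comp d a) :
    Subgroup.centralizer ({x} : Set G) ≤ Subgroup.closure (Comp d a) := by
  rw [← loc_Hd h (comp_mem ha hx)]
  exact Subgroup.closure_mono fun y hy => Relation.ReflTransGen.tail hx hy

theorem comp_stable {a g x : G} (ha : a ∈ conjugatesOf d) (hg : g ∈ Subgroup.closure (Comp d a))
    (hx : x ∈ Comp d a) : g * x * g⁻¹ ∈ Comp d a := by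
  induction hg using Subgroup.closure_induction_left generalizing x with
  | one => simpa using hx
  | mul_left u hu v _ ih =>
    have h2 := comp_conj u ((comp_symm ha hu).trans (ih hx))
    rw [show u * u * u⁻¹ = u by group] at h2
    rw [show u * v * x * (u * v)⁻¹ = u * (v * x * v⁻¹) * u⁻¹ by group]
    exact hu.trans h2
  | inv_mul_cancel u hu v _ ih =>
    have h2 := comp_conj u⁻¹ ((comp_symm ha hu).trans (ih hx))
    rw [show u⁻¹ * u * u⁻¹⁻¹ = u by group] at h2
    rw [show u⁻¹ * v * x * (u⁻¹ * v)⁻¹ = u⁻¹ * (v * x * v⁻¹) * u⁻¹⁻¹ by group]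
    exact hu.trans h2

theorem comp_trans {a x y : G} (ha : a ∈ conjugatesOf d) (hx : x ∈ Comp d a) (hy : y ∈ Comp d a) :
    ∃ g ∈ Subgroup.closure (Comp d a), g * x * g⁻¹ = y := by
  have key : ∀ z ∈ Comp d a, ∃ g ∈ Subgroup.closure (Comp d a), g * a * g⁻¹ = z := by
    intro z hz
    induction hz with
    | refl => exact ⟨1, one_mem _, by group⟩
    | @tail u v hau huv ih =>
      obtain ⟨g, hg, rfl⟩ := ih
      obtain ⟨w, hwu, hwv⟩ := exists_third h (comp_mem ha hau) huv
      obtain ⟨q, hq⟩ := (loc_lvl h hwu.1).conj _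
        (bar_mem (adj_symm (comp_mem ha hau) hwu)) _ (bar_mem (adj_symm huv.1 hwv))
      obtain ⟨k, rfl⟩ := QuotientGroup.mk_surjective q
      refine ⟨(k : G) * g, mul_mem (comp_centralizer h ha (Relation.ReflTransGen.tail hau hwu)
        (loc_Hd h hwu.1 ▸ k.2)) hg, ?_⟩
      rw [← loc_conj_bar h hwu.1 _ _ k hq]
      group
  obtain ⟨g, hg, rfl⟩ := key x hx
  obtain ⟨k, hk, rfl⟩ := key y hy
  exact ⟨k * g⁻¹, mul_mem hk (inv_mem hg), by group⟩

/-- A member not commuting with `a` in the component of `a`. -/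
theorem exists_opposite {a : G} (ha : a ∈ conjugatesOf d) :
    ∃ c ∈ Comp d a, ¬ Commute a c := by
  obtain ⟨q, hq⟩ : ∃ q, q ∈ Db (conjugatesOf d) a := by
    obtain ⟨u, hu, -⟩ := (loc_lvl h ha).pair
    exact ⟨u, hu⟩
  obtain ⟨b, hb, rfl⟩ := exists_bar hq
  by_contra! hall
  have hF := loc_lvl h hb.1
  have hz : bar (adj_symm ha hb) ∈ Subgroup.center (Qd (conjugatesOf d) b) := by
    rw [Subgroup.mem_center_iff]
    intro w
    have : w ∈ Subgroup.closure (Db (conjugatesOf d) b) := hF.group.2.2 ▸ Subgroup.mem_top w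
    induction this using Subgroup.closure_induction with
    | mem v hv =>
      obtain ⟨c, hc, rfl⟩ := exists_bar hv
      exact ((loc_commute h hb.1 hc (adj_symm ha hb)).2
        (hall c (.tail (.tail .refl hb) hc)).symm).eq
    | one => simp
    | mul u v _ _ h1 h2 => exact (Commute.mul_left h1 h2).eq
    | inv u _ h1 => exact (Commute.inv_left h1).eq
  rw [hF.center, Subgroup.mem_bot] at hz
  exact invol_ne_one (hF.group.1.1 _ (bar_mem (adj_symm ha hb))) hz

/-- Primitivity inside the group of the component. -/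
theorem comp_block {a : G} (ha : a ∈ conjugatesOf d) {B : Set G} (hB : B ⊆ Comp d a)
    (hblock : ∀ g ∈ Subgroup.closure (Comp d a),
      (fun x => g * x * g⁻¹) '' B = B ∨ Disjoint ((fun x => g * x * g⁻¹) '' B) B)
    (h2 : ¬ B.Subsingleton) : B = Comp d a := by
  -- conjugation fixing a point of the block
  have hfix : ∀ g ∈ Subgroup.closure (Comp d a), ∀ u ∈ B, g * u * g⁻¹ = u → ∀ v ∈ B,
      g * v * g⁻¹ ∈ B := by
    intro g hg u hu e v hv
    rcases hblock g hg with e' | e'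
    · exact e' ▸ ⟨v, hv, rfl⟩
    · exact absurd (Set.disjoint_left.1 e' ⟨u, hu, e⟩ hu) id
  -- an adjacent pair spreads
  have spread : ∀ u ∈ B, ∀ v ∈ B, Adj d u v → ∀ w, Adj d u w → w ∈ B := by
    intro u hu v hv huv w huw
    have hum := comp_mem ha (hB hu)
    obtain ⟨q, hq⟩ := (loc_lvl h hum).conj _ (bar_mem huv) _ (bar_mem huw)
    obtain ⟨k, rfl⟩ := QuotientGroup.mk_surjective q
    rw [← loc_conj_bar h hum _ _ k hq]
    refine hfix _ (comp_centralizer h ha (hB hu) (loc_Hd h hum ▸ k.2)) u hu ?_ v hv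
    exact conj_eq_of_commute (commute_Hd k.2).symm
  have full : ∀ u ∈ B, ∀ v ∈ B, Adj d u v → B = Comp d a := by
    intro u hu v hv huv
    refine hB.antisymm fun x hx => ?_
    have hum := comp_mem ha (hB hu)
    suffices x ∈ B ∧ ∀ w, Adj d x w → w ∈ B from this.1
    have hux : x ∈ Comp d u := (comp_symm ha (hB hu)).trans hx
    clear hx
    induction hux with
    | refl => exact ⟨hu, spread u hu v hv huv⟩
    | @tail p q hup hpq ih =>
      have hq := ih.2 q hpq
      exact ⟨hq, spread q hq p ih.1 (adj_symm (comp_mem hum hup) hpq)⟩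
  obtain ⟨u, hu, v, hv, hne⟩ : ∃ u ∈ B, ∃ v ∈ B, u ≠ v := by
    simpa [Set.Subsingleton] using h2
  have hum := comp_mem ha (hB hu)
  rcases comp_two h hum ((comp_symm ha (hB hu)).trans (hB hv)) with e | e | ⟨g, hug, hgv⟩
  · exact absurd e.symm hne
  · exact full u hu v hv e
  by_cases cuv : Commute u v
  · exact full u hu v hv ⟨hgv.1, hne.symm, cuv⟩
  have hgm := hug.1
  have hgu := adj_symm hum hug
  have nuv : ¬ Commute (bar hgu) (bar hgv) := fun e => cuv ((loc_commute h hgm hgu hgv).1 e)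
  obtain ⟨q, hq, qv, cqu⟩ : ∃ q ∈ Db (conjugatesOf d) g, q ≠ bar hgv ∧
      Commute q (bar hgv) ∧ ¬ Commute (bar hgu) q :=
    exists_perp_not (loc_lvl h hgm) (loc_m22 h hgm) (bar_mem hgu) (bar_mem hgv) nuv
  obtain ⟨t, ht, rfl⟩ := exists_bar hq
  have hL := loc_lvl h hgm
  obtain ⟨g', hg1, hg2⟩ := trans_noncomm (loc_group h hgm) hL.prim hL.pairc (bar_mem hgu)
    (bar_mem hgv) nuv (bar_mem ht) cqu.2
  obtain ⟨k, rfl⟩ := QuotientGroup.mk_surjective g'
  have k1 := loc_conj_bar h hgm hgu hgu k hg1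
  have k2 := loc_conj_bar h hgm hgv ht k hg2
  have htB : t ∈ B := k2 ▸ hfix _ (comp_centralizer h ha ((hB hu).tail hug)
    (loc_Hd h hgm ▸ k.2)) u hu k1 v hv
  refine full v hv t htB ⟨ht.1, fun e => qv (by subst e; rfl), ?_⟩
  exact ((loc_commute h hgm ht hgv).1 cqu.1).symm

end CfsgLib.InvChar.Fi23Inv
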