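import Cfsg.Agent.Lib.InvChar.Fi23Inv.Type
import Cfsg.Agent.Lib.InvChar.Fi22Inv.Edge
import Cfsg.Agent.Lib.Trans3.Fi.InvolM23

/-!
The centraliser of the product of two adjacent members of a component lies in the group of the
component.
-/

set_option autoImplicit false
set_option linter.unusedSectionVars false

namespace CfsgLib.InvChar.Fi23Inv

open CfsgLib.Trans3 CfsgLib.Trans3.Fi
open CfsgLib.InvChar.Fi22Inv (Adj Comp adj_symm comp_mem comp_symm nbrs_conj' line_perp
  compSet inverts_of_fpf)

/-- An involution commutes with a member. -/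
theorem comp_fixed {X : Type*} [Group X] [Finite X] {E : Set X}
    (hE : Cfsg.IsThreeTranspositionGroup E) (hP : Cfsg.IsPrimitiveUnderConj E)
    (h : Cfsg.IsOfTypeM23 X E) {x : X} (hx : x * x = 1) : ∃ a ∈ E, Commute x a := by
  by_cases h1 : x = 1
  · obtain ⟨a, ha, -⟩ := (nice_m23 hE h).pair
    exact ⟨a, ha, h1 ▸ Commute.one_left a⟩
  obtain ⟨m, l, hm, -, hl⟩ := m23_invol hE hP h h1 hx
  obtain ⟨u, hu⟩ : ∃ u, u ∈ l := by
    cases l with
    | nil => exact absurd hl.2.1 (by simp; omega)
    | cons u t => exact ⟨u, List.mem_cons_self⟩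
  exact ⟨u, hl.2.2.1 u hu,
    (hl.2.2.2.2 ▸ (Commute.list_prod_right _ _ fun v hv => hl.2.2.2.1 u hu v hv).symm : Commute x u)⟩

/-- In a group of type M(22): a member commuting with commuting `e`, `a` and not with `f`. -/
theorem perp_at {X : Type*} [Group X] [Finite X] {E : Set X} (hL : Lvl E)
    (hM : Cfsg.IsOfTypeM22 X E) {e a f : X} (he : e ∈ E) (ha : a ∈ E) (hf : f ∈ E) (hea : e ≠ a)
    (cea : Commute e a) (hfa : f ≠ a) (cfa : Commute f a) (nfe : ¬ Commute f e) :
    ∃ t ∈ E, t ≠ e ∧ Commute t e ∧ Commute t a ∧ ¬ Commute f t := by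
  have hg := hL.group
  have hPre := pre_of_group hg
  have ne' : e ∈ nbrs E a := ⟨he, hea, cea.symm⟩
  have nf : f ∈ nbrs E a := ⟨hf, hfa, cfa.symm⟩
  have hU := m22_isU6 hg hM ha
  have hga := hL.group_Db ha
  have n : ¬ Commute (bar nf) (bar ne') := fun x => nfe ((commute_bar hPre nf ne').1 x)
  obtain ⟨w, hw, wv, cwv, -, -⟩ := u6_mid hU hga (bar_mem ne') (bar_mem ne') (bar_mem ne')
    (Commute.refl _) (Commute.refl _)
  obtain ⟨T, hT, T1, T2, T3⟩ : ∃ T ∈ Db E a, T ≠ bar ne' ∧ Commute T (bar ne') ∧
      ¬ Commute (bar nf) T := by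
    by_cases cw : Commute (bar nf) w
    · obtain ⟨t, ht, t1, t2, -, t4⟩ := line_perp (u6Facts hU hga) (bar_mem ne') hw (bar_mem nf)
        (Ne.symm wv) cwv.symm cw n
      exact ⟨t, ht, t1, t2, t4⟩
    · exact ⟨w, hw, wv, cwv, cw⟩
  obtain ⟨t, ht, rfl⟩ := exists_bar hT
  exact ⟨t, ht.1, fun x => T1 (by subst x; rfl), (commute_bar hPre ht ne').1 T2, ht.2.2.symm,
    fun x => T3 ((commute_bar hPre nf ht).2 x)⟩

variable {G : Type*} [Group G] [Finite G] {d : G} (h : Cen d)
include h

theorem comp_set {o : G} (ho : o ∈ conjugatesOf d) :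
    Cfsg.IsThreeTranspositionSet (Comp d o) :=
  ⟨fun x hx => (cen_of_mem h (comp_mem ho hx)).ord, fun _ hx _ hy => comp_prod h ho hx hy⟩

omit h in
theorem comp_comm {o a y : G} (ha : a ∈ Comp d o) (hy : y ∈ conjugatesOf d) (hc : Commute a y) :
    y ∈ Comp d o := by
  by_cases e : y = a
  · exact e ▸ ha
  · exact ha.tail ⟨hy, e, hc⟩

theorem comp_stab {o a g : G} (ho : o ∈ conjugatesOf d) (ha : a ∈ Comp d o)
    (hg : g * a * g⁻¹ ∈ Comp d o) : g ∈ Subgroup.closure (Comp d o) := by
  obtain ⟨k, hk, e⟩ := comp_trans h ho ha hg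
  have : k⁻¹ * g ∈ Subgroup.centralizer ({a} : Set G) := by
    rw [Subgroup.mem_centralizer_singleton_iff]
    calc k⁻¹ * g * a = k⁻¹ * (g * a * g⁻¹) * g := by group
      _ = k⁻¹ * (k * a * k⁻¹) * g := by rw [e]
      _ = a * (k⁻¹ * g) := by group
  simpa using mul_mem hk (comp_centralizer h ho ha this)

/-- Four distinct commuting members do not have product one. -/
theorem no_four {a b p q : G} (ha : a ∈ conjugatesOf d) (hb : b ∈ nbrs (conjugatesOf d) a)
    (hp : p ∈ nbrs (conjugatesOf d) a) (hq : q ∈ nbrs (conjugatesOf d) a)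
    (n₁ : b ≠ p) (n₂ : b ≠ q) (n₃ : p ≠ q) (c₁ : Commute b p) (c₂ : Commute b q) (c₃ : Commute p q) :
    a * (b * p * q) ≠ 1 := by
  intro e
  have e' := eq_inv_of_mul_eq_one_right e
  rw [invol_inv (cen_of_mem h ha).ord] at e'
  refine (no_rel_five h ha (l := [b, p, q]) (by simp [n₁, n₂, n₃]) (fun u hu => ?_)
    (by simp [c₁, c₁.symm, c₂, c₂.symm, c₃, c₃.symm]) (by simp)).2 (by simpa [mul_assoc] using e')
  simp only [List.mem_cons, List.not_mem_nil, or_false] at hu
  rcases hu with rfl | rfl | rfl
  exacts [hb, hp, hq]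

/-- Two commuting pairs with the same product coincide. -/
theorem pair_ne {a b e t : G} (ha : a ∈ conjugatesOf d) (hb : b ∈ nbrs (conjugatesOf d) a)
    (he : e ∈ nbrs (conjugatesOf d) a) (ht : t ∈ nbrs (conjugatesOf d) a) (neb : e ≠ b)
    (ntb : t ≠ b) (net : e ≠ t) (ceb : Commute e b) (ctb : Commute t b) (cet : Commute e t) :
    e * t ≠ a * b := by
  intro eq
  refine no_four h ha hb he ht neb.symm ntb.symm net ceb.symm ctb.symm cet ?_
  rw [show a * (b * e * t) = a * b * (e * t) by group, eq,
    show a * b * (a * b) = a * (b * a) * b by group, ← hb.2.2.eq,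
    show a * (a * b) * b = a * a * (b * b) by group, loc_sq h ha, loc_sq h hb.1, one_mul]

theorem pair_not_mem {a b : G} (ha : a ∈ conjugatesOf d) (hb : b ∈ nbrs (conjugatesOf d) a) :
    a * b ∉ conjugatesOf d := by
  intro hc
  have hca : a * b ∈ nbrs (conjugatesOf d) a :=
    ⟨hc, fun e => invol_ne_one (cen_of_mem h hb.1).ord (mul_eq_left.1 e),
      (Commute.refl a).mul_right hb.2.2⟩
  have haH : a ∈ Hd (conjugatesOf d) a :=
    loc_Hd h ha ▸ Subgroup.mem_centralizer_singleton_iff.2 rfl
  have e : bar hca = bar hb := by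
    refine QuotientGroup.eq.2 ?_
    have : (⟨a, haH⟩ : ↥(Hd (conjugatesOf d) a)) ∈ Subgroup.center _ :=
      Subgroup.mem_center_iff.2 fun w => Subtype.ext (commute_Hd w.2).eq.symm
    convert this
    show (a * b)⁻¹ * b = a
    rw [mul_inv_rev, invol_inv (cen_of_mem h hb.1).ord, invol_inv (cen_of_mem h ha).ord, mul_assoc,
      hb.2.2.eq, ← mul_assoc, loc_sq h hb.1, one_mul]
  exact invol_ne_one (cen_of_mem h ha).ord (mul_eq_right.1 (loc_bar_inj h ha hca hb e))

theorem pair_fix {a b x : G} (ha : a ∈ conjugatesOf d) (hb : b ∈ nbrs (conjugatesOf d) a)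
    (hx : Commute x (a * b)) (hc : Commute a (x * a * x⁻¹)) :
    x * a * x⁻¹ = a ∨ x * a * x⁻¹ = b := by
  by_contra! hne
  obtain ⟨h1, h2⟩ := hne
  have he : x * a * x⁻¹ ∈ nbrs (conjugatesOf d) a := ⟨Fi22Inv.conj_mem x ha, h1, hc⟩
  have ei : x * (a * b) * x⁻¹ = a * b := by rw [hx.eq, mul_inv_cancel_right]
  have ep : x * a * x⁻¹ * (x * b * x⁻¹) = a * b := by
    calc _ = x * (a * b) * x⁻¹ := by group
      _ = a * b := ei
  have sA := loc_sq h he.1
  have eb : x * b * x⁻¹ = x * a * x⁻¹ * (a * b) := by
    rw [← ep, ← mul_assoc, sA, one_mul]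
  have cab' : Commute (x * a * x⁻¹) (a * b) := by
    have := ((Commute.refl a).mul_right hb.2.2).map (MulAut.conj x).toMonoidHom
    rwa [MulEquiv.coe_toMonoidHom, MulAut.conj_apply, MulAut.conj_apply, ei] at this
  have cb : Commute (x * a * x⁻¹) b := by
    have := hc.symm.inv_right.mul_right cab'
    rwa [inv_mul_cancel_left] at this
  have ht : x * b * x⁻¹ ∈ nbrs (conjugatesOf d) a := by
    refine ⟨Fi22Inv.conj_mem x hb.1, fun e => h2 ?_, eb ▸ hc.mul_right ((Commute.refl a).mul_right hb.2.2)⟩
    rw [e, hb.2.2.eq] at ep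
    exact mul_right_cancel ep
  have ntb : x * b * x⁻¹ ≠ b := fun e => h1 (by rw [e] at ep; exact mul_right_cancel ep)
  refine pair_ne h ha hb he ht h2 ntb
    (fun e => hb.2.1 (mul_left_cancel (mul_right_cancel e)).symm) cb
    (eb ▸ cb.mul_left (hb.2.2.mul_left (Commute.refl b))) ?_ ep
  exact eb ▸ (Commute.refl _).mul_right cab'

/-- The centraliser of the product modulo the product. -/
theorem edge_core {o a b : G} (ho : o ∈ conjugatesOf d) (hao : a ∈ Comp d o)
    (hb : b ∈ nbrs (conjugatesOf d) a) :
    (∀ g, Commute g (a * b) → ∃ m, Odd m ∧ ((a * (g * a * g⁻¹)) ^ 2) ^ m = 1) ∧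
      ∀ r ∈ nbrs (conjugatesOf d) a, Commute r b → r ≠ b → ∀ x, Odd (orderOf x) →
        Commute x (a * b) → a * x * a = x⁻¹ → r * x * r = x⁻¹ := by
  classical
  have ha := comp_mem ho hao
  have hbo : b ∈ Comp d o := hao.tail hb
  have sa := loc_sq h ha
  have sb := loc_sq h hb.1
  have hia := invol_inv (cen_of_mem h ha).ord
  have cab := hb.2.2
  obtain ⟨i, ei⟩ : ∃ i, i = a * b := ⟨_, rfl⟩
  have si : i * i = 1 := by
    rw [ei, show a * b * (a * b) = a * (b * a) * b by group, ← cab.eq,
      show a * (a * b) * b = a * a * (b * b) by group, sa, sb, one_mul]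
  have i1 : i ≠ 1 := fun e => hb.2.1 (by
    rw [ei] at e; rw [← inv_eq_of_mul_eq_one_right e, hia])
  have hai : a * i = b := by rw [ei, ← mul_assoc, sa, one_mul]
  have hia' : i * a = b := by rw [ei, mul_assoc, ← cab.eq, ← mul_assoc, sa, one_mul]
  have hbi : b * i = a := by rw [ei, cab.eq, ← mul_assoc, sb, one_mul]
  rw [← ei]
  have aX : a ∈ Subgroup.centralizer ({i} : Set G) :=
    Subgroup.mem_centralizer_singleton_iff.2 (ei ▸ ((Commute.refl a).mul_right cab).eq)
  let i' : ↥(Subgroup.centralizer ({i} : Set G)) := ⟨i, Subgroup.mem_centralizer_singleton_iff.2 rfl⟩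
  let a' : ↥(Subgroup.centralizer ({i} : Set G)) := ⟨a, aX⟩
  let N0 : Subgroup ↥(Subgroup.centralizer ({i} : Set G)) := Subgroup.zpowers i'
  haveI hN0 : N0.Normal := ⟨fun n hn g => by
    obtain ⟨k, rfl⟩ := hn
    have : Commute g i' := Subtype.ext (Subgroup.mem_centralizer_singleton_iff.1 g.2)
    show g * i' ^ k * g⁻¹ ∈ N0
    rw [(this.zpow_right k).eq, mul_inv_cancel_right]
    exact ⟨k, rfl⟩⟩
  let π := QuotientGroup.mk' N0
  have si' : i' * i' = 1 := Subtype.ext si
  have hker : ∀ u v : ↥(Subgroup.centralizer ({i} : Set G)), π u = π v →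
      (v : G) = u ∨ (v : G) = u * i := by
    intro u v e
    obtain ⟨k, hk'⟩ := QuotientGroup.eq.1 e
    have hk : i' ^ k = u⁻¹ * v := hk'
    have hv : v = u * i' ^ k := by rw [hk, mul_inv_cancel_left]
    rcases Int.even_or_odd' k with ⟨j, rfl | rfl⟩ <;> rw [hv]
    · left; rw [zpow_mul, zpow_two, si', one_zpow, mul_one]
    · right; rw [zpow_add, zpow_mul, zpow_two, si', one_zpow, one_mul, zpow_one]; rfl
  have hiso : Cfsg.IsIsolatedInvolution (π a') := by
    refine ⟨CfsgLib.Invol.invol_of_mul_self (by rw [← map_mul, show a' * a' = 1 from Subtype.ext sa, map_one])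
      fun e => ?_, fun q hq => ?_⟩
    · rcases hker 1 a' (by rw [e, map_one]) with e' | e'
      · exact invol_ne_one (cen_of_mem h ha).ord e'
      · simp only [Subgroup.coe_one, one_mul] at e'
        have e'' : a * b = a := by rw [← ei]; exact e'.symm
        exact invol_ne_one (cen_of_mem h hb.1).ord (mul_eq_left.1 e'')
    · obtain ⟨g, rfl⟩ := QuotientGroup.mk'_surjective N0 q
      rw [← map_inv, ← map_mul, ← map_mul] at hq ⊢
      have hq' : π (a' * (g * a' * g⁻¹)) = π (g * a' * g⁻¹ * a') := by
        rw [map_mul, map_mul]; exact hq.eq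
      obtain ⟨y, ey⟩ : ∃ y : G, y = (g : G) * a * (g : G)⁻¹ := ⟨_, rfl⟩
      have hgi : Commute (g : G) i := Subgroup.mem_centralizer_singleton_iff.1 g.2
      have hyD : y ∈ conjugatesOf d := ey ▸ Fi22Inv.conj_mem _ ha
      rcases hker _ _ hq' with e | e <;> simp only [Subgroup.coe_mul, Subgroup.coe_inv] at e <;>
        change (g : G) * a * (g : G)⁻¹ * a = _ at e <;> rw [← ey] at e
      · rcases pair_fix h ha hb (ei ▸ hgi) (ey ▸ show Commute a y from e.symm) with e' | e'
        · exact congrArg π (Subtype.ext e')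
        · refine QuotientGroup.eq.2 ⟨1, Subtype.ext ?_⟩
          simp only [zpow_one, Subgroup.coe_mul, Subgroup.coe_inv]
          show i = ((g : G) * a * (g : G)⁻¹)⁻¹ * a
          rw [e', invol_inv (cen_of_mem h hb.1).ord, ei, cab.eq]
      · exfalso
        -- `y` would exchange `a` and `b`
        have hiy : Commute i y := by
          rw [ey]
          exact (hgi.symm.mul_right (ei ▸ ((Commute.refl a).mul_right cab).symm)).mul_right
            hgi.symm.inv_right
        have key : y * a * y = b := by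
          have sy := loc_sq h hyD
          calc y * a * y = a * y * i * y := by rw [e]
            _ = a * (y * y) * i := by rw [mul_assoc (a * y), hiy.eq]; group
            _ = b := by rw [sy, mul_one, ei, ← mul_assoc, sa, one_mul]
        have hyH : y ∈ Subgroup.closure (Comp d o) := comp_stab h ho hao (by
          rw [invol_inv (cen_of_mem h hyD).ord, key]; exact hbo)
        obtain ⟨w, hw, cw⟩ : ∃ w ∈ Comp d o, Commute w y := by
          haveI : Finite ↥(Subgroup.closure (Comp d o)) := inferInstance
          obtain ⟨w, hw, cw⟩ := comp_fixed (comp_group h ho) (comp_prim h ho) (comp_m23 h ho)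
            (x := ⟨y, hyH⟩) (Subtype.ext (loc_sq h hyD))
          exact ⟨w, hw, (cw.map (Subgroup.closure (Comp d o)).subtype).symm⟩
        have hyo := comp_comm hw hyD cw
        by_cases cy : Commute y a
        · rw [cy.eq, mul_assoc, loc_sq h hyD, mul_one] at key
          exact hb.2.1 key.symm
        · have e1 := Trans3.braid (comp_set h ho) hyo hao cy
          rw [key] at e1
          have e2 : y = b := by
            have : a * b * a = a * (a * y * a) * a := by rw [← e1]
            rw [cab.eq, mul_assoc, sa, mul_one,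
              show a * (a * y * a) * a = a * a * y * (a * a) by group, sa, one_mul, mul_one] at this
            exact this.symm
          exact cy (e2 ▸ cab.symm)
  have hsm : π a' * π a' = 1 := by rw [← map_mul, show a' * a' = 1 from Subtype.ext sa, map_one]
  have hpi : (π a')⁻¹ = π a' := inv_eq_of_mul_eq_one_right hsm
  obtain ⟨O, eO⟩ : ∃ O, O = Cfsg.oddCore (↥(Subgroup.centralizer ({i} : Set G)) ⧸ N0) := ⟨_, rfl⟩
  have hOn : O.Normal := eO ▸ CfsgLib.Solvable.pPrimeCore_normal 2 _
  obtain ⟨m, em⟩ : ∃ m, m = Nat.card O := ⟨_, rfl⟩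
  have hm : Odd m := em ▸ eO ▸ CfsgLib.Invol.odd_card_oddCore _
  have hpow : ∀ q ∈ O, q ^ m = 1 := fun q hq => by
    have := congrArg Subtype.val (pow_card_eq_one' (x := (⟨q, hq⟩ : O)))
    rwa [← em, Subgroup.coe_pow] at this
  have hodd : ∀ q ∈ O, q * q = 1 → q = 1 := fun q hq e => by
    obtain ⟨l, hl⟩ := hm
    have := hpow q hq
    rwa [hl, pow_succ, pow_mul, pow_two, e, one_pow, one_mul] at this
  have hzs : ∀ g : ↥(Subgroup.centralizer ({i} : Set G)), π (a' * g * a'⁻¹ * g⁻¹) ∈ O := fun g => by
    rw [eO, map_mul, map_mul, map_mul, map_inv, map_inv]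
    exact CfsgLib.Invol.zstar _ hiso (π g)
  -- no fixed points of `a`
  have fpa : ∀ q ∈ O, π a' * q * π a' = q → q = 1 := by
    intro q hq hfix
    obtain ⟨x, rfl⟩ := QuotientGroup.mk'_surjective N0 q
    have hxi : Commute (x : G) i := Subgroup.mem_centralizer_singleton_iff.1 x.2
    rw [← map_mul, ← map_mul] at hfix
    have hxa : Commute (x : G) a := by
      rcases hker _ _ hfix.symm with e | e <;> simp only [Subgroup.coe_mul] at e <;>
        change a * (x : G) * a = _ at e
      · exact (show a * (x : G) = x * a by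
          calc a * (x : G) = a * x * (a * a) := by rw [sa, mul_one]
            _ = a * x * a * a := by group
            _ = x * a := by rw [e]).symm
      · -- `x` would exchange `a` and `b`
        exfalso
        have e1 : (x : G)⁻¹ * a * x = b := by
          calc (x : G)⁻¹ * a * x = (x : G)⁻¹ * (a * x * a) * a := by
                simp only [mul_assoc]; rw [sa, mul_one]
            _ = i * a := by rw [e]; group
            _ = b := hia'
        have e2 : (x : G)⁻¹ * b * x = a := by
          calc (x : G)⁻¹ * b * x = ((x : G)⁻¹ * a * x) * ((x : G)⁻¹ * i * x) := by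
                rw [← hai]; group
            _ = b * i := by rw [e1, mul_assoc _ i, ← hxi.eq, inv_mul_cancel_left]
            _ = a := hbi
        have c2 : Commute ((x : G) ^ 2) a := by
          have : ((x : G) ^ 2)⁻¹ * a * (x : G) ^ 2 = a := by
            calc ((x : G) ^ 2)⁻¹ * a * (x : G) ^ 2 = (x : G)⁻¹ * ((x : G)⁻¹ * a * x) * x := by
                  rw [pow_two]; group
              _ = a := by rw [e1, e2]
          show (x : G) ^ 2 * a = a * (x : G) ^ 2
          conv_lhs => rw [← this]
          group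
        have cm : Commute ((x : G) ^ m) a := by
          have h1 : π (x ^ m) = π 1 := by rw [map_pow, map_one]; exact hpow _ hq
          rcases hker _ _ h1.symm with e' | e' <;>
            rw [Subgroup.coe_pow, Subgroup.coe_one] at e' <;> rw [e']
          · exact Commute.one_left _
          · rw [one_mul]; exact (show i * a = a * i from hia'.trans hai.symm)
        obtain ⟨l, hl⟩ := hm
        have : Commute (x : G) a := by
          have h3 := ((c2.pow_left l).inv_left).mul_left cm
          have e3 : (((x : G) ^ 2) ^ l)⁻¹ * (x : G) ^ m = x := by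
            rw [hl, ← pow_mul, pow_succ, inv_mul_cancel_left]
          rwa [e3] at h3
        rw [mul_assoc, ← this.eq, inv_mul_cancel_left] at e1
        exact hb.2.1 e1.symm
    have hxb : Commute (x : G) b := by
      have := hxa.inv_right.mul_right hxi
      rwa [show a⁻¹ * i = b by rw [hia, hai]] at this
    have hxHd : (x : G) ∈ Hd (conjugatesOf d) b :=
      loc_Hd h hb.1 ▸ Subgroup.mem_centralizer_singleton_iff.2 hxb.eq
    have hanb : a ∈ nbrs (conjugatesOf d) b := adj_symm ha hb
    have hcom : ∀ e ∈ nbrs (conjugatesOf d) b, Commute e a → Commute (x : G) e := by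
      intro e he cea
      by_cases eea : e = a
      · exact eea ▸ hxa
      obtain ⟨f, ef⟩ : ∃ f, f = (x : G) * e * (x : G)⁻¹ := ⟨_, rfl⟩
      have hf : f ∈ nbrs (conjugatesOf d) b :=
        ef ▸ nbrs_conj' (Subgroup.mem_centralizer_singleton_iff.2 hxb.eq) he
      have cfa : Commute f a := by
        rw [ef]; exact (hxa.mul_left cea).mul_left hxa.inv_left
      have memX : ∀ {u : G}, Commute u a → Commute u b → u ∈ Subgroup.centralizer ({i} : Set G) :=
        fun c1 c2 => Subgroup.mem_centralizer_singleton_iff.2 (ei ▸ (c1.mul_right c2).eq)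
      have small : ∀ {u : G} (hu : u ∈ nbrs (conjugatesOf d) b) (cua : Commute u a), u ≠ a →
          Commute e u → π ⟨_, mul_mem (memX cea he.2.2.symm) (memX cua hu.2.2.symm)⟩ ∈ O →
          e = u := by
        intro u hu cua una ceu hmem
        by_contra hne
        have h1 := hodd _ hmem (by
          rw [← map_mul]
          convert map_one π
          refine Subtype.ext ?_
          show e * u * (e * u) = 1
          rw [show e * u * (e * u) = e * (u * e) * u by group, ← ceu.eq,
            show e * (e * u) * u = e * e * (u * u) by group, loc_sq h he.1, loc_sq h hu.1, one_mul])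
        rcases hker _ 1 (h1.trans (map_one π).symm) with e' | e' <;>
          simp only [Subgroup.coe_one] at e'
        · exact hne (by rw [← invol_inv (cen_of_mem h hu.1).ord]; exact eq_inv_of_mul_eq_one_left e'.symm)
        · refine pair_ne h ha hb ⟨he.1, eea, cea.symm⟩ ⟨hu.1, una, cua.symm⟩ he.2.1 hu.2.1
            hne he.2.2.symm hu.2.2.symm ceu ?_
          calc e * u = e * u * (i * i) := by rw [si, mul_one]
            _ = e * u * i * i := by group
            _ = i := by rw [← e', one_mul]
            _ = a * b := ei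
      have heX := memX cea he.2.2.symm
      have hefO : π (⟨e, heX⟩ * ⟨f, memX cfa hf.2.2.symm⟩) ∈ O := by
        have hexe : (⟨e, heX⟩ * ⟨f, memX cfa hf.2.2.symm⟩ :
            ↥(Subgroup.centralizer ({i} : Set G))) = (⟨e, heX⟩ * x * ⟨e, heX⟩⁻¹) * x⁻¹ := by
          refine Subtype.ext ?_
          show e * f = e * (x : G) * e⁻¹ * (x : G)⁻¹
          rw [ef, invol_inv (cen_of_mem h he.1).ord]; group
        rw [hexe, map_mul, map_mul, map_mul, map_inv, map_inv]
        exact mul_mem (hOn.conj_mem _ hq _) (inv_mem hq)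
      by_cases cef : Commute e f
      · have := small hf cfa (fun e' => eea (by
          rw [ef, mul_inv_eq_iff_eq_mul, ← hxa.eq] at e'
          exact mul_left_cancel e')) cef hefO
        show (x : G) * e = e * x
        conv_rhs => rw [this, ef]
        group
      exfalso
      obtain ⟨qt, mt, t1, t2, t3, t4⟩ := perp_at (loc_lvl h hb.1) (loc_m22 h hb.1) (bar_mem he)
        (bar_mem hanb) (bar_mem hf)
        (fun e' => eea (loc_bar_inj h hb.1 he hanb e')) ((loc_commute h hb.1 he hanb).2 cea)
        (fun e' => by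
          have : f = a := loc_bar_inj h hb.1 hf hanb e'
          exact cef (this ▸ cea))
        ((loc_commute h hb.1 hf hanb).2 cfa)
        (fun e' => cef ((loc_commute h hb.1 hf he).1 e').symm)
      obtain ⟨t, ht, rfl⟩ := exists_bar mt
      have cta : Commute t a := (loc_commute h hb.1 ht hanb).1 t3
      have nft : ¬ Commute f t := fun e' => t4 ((loc_commute h hb.1 hf ht).2 e')
      have htX := memX cta ht.2.2.symm
      have hfX := memX cfa hf.2.2.symm
      have hti : t⁻¹ = t := invol_inv (cen_of_mem h ht.1).ord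
      have h2 : π ((⟨e, heX⟩ * ⟨f, hfX⟩)⁻¹ * (⟨t, htX⟩ * (⟨e, heX⟩ * ⟨f, hfX⟩) * ⟨t, htX⟩⁻¹)) ∈ O := by
        rw [map_mul, map_inv]
        refine mul_mem (inv_mem hefO) ?_
        rw [map_mul, map_mul, map_inv]
        exact hOn.conj_mem _ hefO _
      have h3 : π (⟨e, heX⟩ * ⟨f, hfX⟩) *
          (π ((⟨e, heX⟩ * ⟨f, hfX⟩)⁻¹ * (⟨t, htX⟩ * (⟨e, heX⟩ * ⟨f, hfX⟩) * ⟨t, htX⟩⁻¹)))⁻¹ ∈ O :=
        mul_mem hefO (inv_mem h2)
      rw [← map_inv, ← map_mul] at h3
      have cte : Commute t e := (loc_commute h hb.1 ht he).1 t2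
      have hsmall := small ht cta (fun e' => nft (e' ▸ cfa)) cte.symm (by
        convert h3 using 2
        refine Subtype.ext ?_
        show e * t = e * f * ((e * f)⁻¹ * (t * (e * f) * t⁻¹))⁻¹
        have hb3 := loc_braid h hb.1 hf ht nft
        rw [hti, show t * (e * f) * t = e * (t * f * t) by
            rw [← mul_assoc t e, cte.eq]; group,
          mul_inv_rev, mul_inv_rev, inv_inv, invol_inv (cen_of_mem h he.1).ord,
          mul_inv_rev, mul_inv_rev, hti, invol_inv (cen_of_mem h hf.1).ord]
        rw [show t * (f * t) * e * (e * f) = t * f * t * (e * e) * f by group, loc_sq h he.1, mul_one,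
          ← hb3, show f * t * f * f = f * t * (f * f) by group, loc_sq h hf.1, mul_one,
          show e * f * (f * t) = e * (f * f) * t by group, loc_sq h hf.1, mul_one])
      exact t1 (by subst hsmall; rfl)
    have hq' : (⟨(x : G), hxHd⟩ : ↥(Hd (conjugatesOf d) b)) ∈ Subgroup.center _ ∨
        (⟨(x : G), hxHd⟩ : ↥(Hd (conjugatesOf d) b))⁻¹ * ⟨a, Subgroup.subset_closure hanb⟩ ∈
          Subgroup.center _ := by
      refine (m22_centralizer (loc_group h hb.1) (loc_prim h hb.1) (loc_m22 h hb.1) (bar_mem hanb)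
        (z := QuotientGroup.mk ⟨(x : G), hxHd⟩) fun q hq c => ?_).imp
        (fun e => (QuotientGroup.eq_one_iff _).1 e) fun e => QuotientGroup.eq.1 e
      obtain ⟨e, he, rfl⟩ := exists_bar hq
      show (QuotientGroup.mk _ : Qd _ b) * QuotientGroup.mk _ = _
      rw [← QuotientGroup.mk_mul]
      exact congrArg QuotientGroup.mk
        (Subtype.ext (hcom e he ((loc_commute h hb.1 hanb he).1 c).symm).eq)
    refine hodd _ hq ?_
    rw [← map_mul]
    convert map_one π
    refine Subtype.ext ?_
    show (x : G) * x = 1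
    rcases hq' with hc' | hc' <;> rcases loc_center h hb.1 hc' with e | e
    · rw [show (x : G) = 1 from e, one_mul]
    · rw [show (x : G) = b from e, sb]
    · have e' : a = x := inv_mul_eq_one.1 (show (x : G)⁻¹ * a = 1 from e) |>.symm
      rw [← e', sa]
    · have e' : (x : G) = i := by
        have := show (x : G)⁻¹ * a = b from e
        rw [inv_mul_eq_iff_eq_mul] at this
        calc (x : G) = (x : G) * b * b := by rw [mul_assoc, sb, mul_one]
          _ = a * b := by rw [← this]
          _ = i := ei.symm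
      rw [e', si]
  have inva := inverts_of_fpf hOn hsm fpa
  refine ⟨fun g hg => ?_, fun r hr crb nrb x hx hxi hax => ?_⟩
  · refine ⟨m, hm, ?_⟩
    let g' : ↥(Subgroup.centralizer ({i} : Set G)) := ⟨g, Subgroup.mem_centralizer_singleton_iff.2 hg.eq⟩
    have hk : π (a' * (g' * a' * g'⁻¹)) ∈ O := by
      have := hzs g'
      rwa [show a' * g' * a'⁻¹ * g'⁻¹ = a' * (g' * a' * g'⁻¹) by
        rw [show a'⁻¹ = a' from Subtype.ext hia]; group] at this
    have h1 := hpow _ hk
    rw [← map_pow, ← map_one π] at h1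
    rw [← pow_mul, mul_comm, pow_mul, pow_two]
    rcases hker _ _ h1.symm with e | e <;> simp only [Subgroup.coe_pow, Subgroup.coe_one,
      Subgroup.coe_mul, Subgroup.coe_inv] at e <;> change (a * (g * a * g⁻¹)) ^ m = _ at e <;> rw [e]
    · exact one_mul 1
    · rw [one_mul]; exact si
  · -- `r` has no fixed points either
    have hrX : r ∈ Subgroup.centralizer ({i} : Set G) :=
      Subgroup.mem_centralizer_singleton_iff.2 (ei ▸ (hr.2.2.symm.mul_right crb).eq)
    let r' : ↥(Subgroup.centralizer ({i} : Set G)) := ⟨r, hrX⟩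
    have sr : r * r = 1 := loc_sq h hr.1
    have fpr : ∀ q ∈ O, π r' * q * π r' = q → q = 1 := by
      intro q hq hfix
      obtain ⟨y, rfl⟩ := QuotientGroup.mk'_surjective N0 q
      have hyi : Commute (y : G) i := Subgroup.mem_centralizer_singleton_iff.1 y.2
      rw [← map_mul, ← map_mul] at hfix
      refine fpa _ hq ?_
      rcases hker _ _ hfix.symm with e | e <;> simp only [Subgroup.coe_mul] at e <;>
        change r * (y : G) * r = _ at e
      · have cyr : Commute (y : G) r := by
          show (y : G) * r = r * y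
          calc (y : G) * r = r * y * r * r := by rw [e]
            _ = r * y := by rw [mul_assoc, sr, mul_one]
        have hro : r ∈ Comp d o := hao.tail hr
        have hyH : (y : G) ∈ Subgroup.closure (Comp d o) := comp_centralizer h ho hro
          (Subgroup.mem_centralizer_singleton_iff.2 cyr.eq)
        have hA := comp_stable h ho hyH hao
        have cA : Commute ((y : G) * a * (y : G)⁻¹) i := by
          exact (hyi.mul_left (ei ▸ (Commute.refl a).mul_right cab)).mul_left hyi.inv_left
        have cAa := ((commute_mul_iff (comp_set h ho) hao hbo hA hb.2.1.symm cab).1 (ei ▸ cA)).1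
        have : π a' * π y = π y * π a' := by
          rcases pair_fix h ha hb (ei ▸ hyi) cAa.symm with e' | e'
          · rw [← map_mul, ← map_mul]
            refine congrArg π (Subtype.ext ?_)
            show a * (y : G) = y * a
            rw [mul_inv_eq_iff_eq_mul] at e'
            exact e'.symm
          · have : π (y * a') = π (i' * a' * y) := by
              refine congrArg π (Subtype.ext ?_)
              show (y : G) * a = i * a * y
              rw [mul_inv_eq_iff_eq_mul] at e'
              rw [e', hia']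
            rw [map_mul, map_mul, map_mul] at this
            have h0 : π i' = 1 := (QuotientGroup.eq_one_iff i').2 (Subgroup.mem_zpowers i')
            rw [this, h0, one_mul]
        rw [this, mul_assoc, hsm, mul_one]
      · exfalso
        have hr' : (y : G)⁻¹ * r * y ∈ conjugatesOf d := by simpa using Fi22Inv.conj_mem (y : G)⁻¹ hr.1
        have e' : (y : G)⁻¹ * r * y = i * r := by
          calc (y : G)⁻¹ * r * y = (y : G)⁻¹ * (r * y * r) * r := by
                simp only [mul_assoc]; rw [sr, mul_one]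
            _ = i * r := by rw [e]; group
        rw [e'] at hr'
        have ca : Commute (i * r) a := by
          rw [ei]; exact ((Commute.refl a).mul_left cab.symm).mul_left hr.2.2.symm
        have cb : Commute (i * r) b := by
          rw [ei]; exact (cab.mul_left (Commute.refl b)).mul_left crb
        have cir : Commute (i * r) r := by
          rw [ei]; exact (hr.2.2.mul_left crb.symm).mul_left (Commute.refl r)
        have hai : a * i = b := by rw [ei, ← mul_assoc, sa, one_mul]
        refine pair_ne h ha hb (e := i * r) ⟨hr', fun e0 => nrb ?_, ca.symm⟩ hr (fun e0 => ?_) nrb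
          (fun e0 => i1 (mul_eq_right.1 e0)) cb crb cir ?_
        · have := congrArg (a * ·) e0
          simp only [← mul_assoc, hai, sa] at this
          rw [← inv_eq_of_mul_eq_one_right this, invol_inv (cen_of_mem h hb.1).ord]
        · rw [ei, cab.eq, mul_assoc] at e0
          refine hr.2.1 ?_
          rw [← inv_eq_of_mul_eq_one_right (mul_eq_left.1 e0), hia]
        · rw [mul_assoc, sr, mul_one, ei]
    have invr := inverts_of_fpf hOn (t := π r') (by
      rw [← map_mul, show r' * r' = 1 from Subtype.ext sr, map_one]) fpr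
    let x' : ↥(Subgroup.centralizer ({i} : Set G)) := ⟨x, Subgroup.mem_centralizer_singleton_iff.2 hxi.eq⟩
    have h2 : π (x'⁻¹ * x'⁻¹) ∈ O := by
      have := hzs x'
      rwa [show a' * x' * a'⁻¹ = x'⁻¹ from Subtype.ext (show a * x * a⁻¹ = x⁻¹ by rw [hia]; exact hax)]
        at this
    have hxO : π x' ∈ O := by
      obtain ⟨l, hl⟩ := hx
      have ex : x' = (x'⁻¹ * x'⁻¹)⁻¹ ^ (l + 1) := by
        refine Subtype.ext ?_
        show x = ((x⁻¹ * x⁻¹)⁻¹) ^ (l + 1)
        have h0 : x ^ (2 * l + 1) = 1 := hl ▸ pow_orderOf_eq_one x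
        rw [mul_inv_rev, inv_inv, ← pow_two, ← pow_mul, show 2 * (l + 1) = (2 * l + 1) + 1 by ring,
          pow_succ, h0, one_mul]
      rw [ex, map_pow, map_inv]
      exact pow_mem (inv_mem h2) _
    have h3 := invr _ hxO
    rw [← map_mul, ← map_mul, ← map_inv] at h3
    rcases hker _ _ h3.symm with e | e <;> simp only [Subgroup.coe_mul, Subgroup.coe_inv] at e <;>
      change r * x * r = _ at e
    · exact e
    · exfalso
      have h4 : (r * x * r) ^ orderOf x = 1 := by
        have hr' : r⁻¹ = r := invol_inv (cen_of_mem h hr.1).ord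
        rw [← hr', show r⁻¹ * x * r⁻¹ = r * x * r⁻¹ by rw [hr'], conj_pow, pow_orderOf_eq_one]
        group
      change (r * x * r) ^ orderOf x = 1 at h4
      rw [e] at h4
      change (x⁻¹ * i) ^ orderOf x = 1 at h4
      rw [hxi.inv_left.mul_pow, inv_pow, pow_orderOf_eq_one, inv_one, one_mul] at h4
      obtain ⟨l, hl⟩ := hx
      rw [hl, pow_succ, pow_mul, pow_two, si, one_pow, one_mul] at h4
      exact i1 h4

end CfsgLib.InvChar.Fi23Inv
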