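import Cfsg.Agent.Lib.InvChar.Fi23Inv.Frame
import Cfsg.Agent.Lib.Trans3.FiConf.Config
import Cfsg.Agent.Lib.Trans3.FiConf.Extend22

/-!
Eight common neighbours of a non-commuting pair in the shape `Y₃₂₂`, glued from three frames.
-/

set_option autoImplicit false
set_option linter.unusedSectionVars false
set_option maxRecDepth 100000

namespace CfsgLib.InvChar.Fi23Inv

open CfsgLib.Trans3 CfsgLib.Trans3.Fi CfsgLib.Trans3.FiConf CfsgLib.Trans3.Spider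

local notation "V" => Fin 6 → ZMod 3

theorem unit_norm : ∀ i : Fin 6, dot (unit6 i) (unit6 i) = 1 := by decide +kernel

theorem unit_sep : ∀ i j : Fin 6, i ≠ j → dot (unit6 i) (unit6 j) = 0 ∧ ∃ z : V,
    dot z z = 1 ∧ dot (unit6 i) z ≠ 0 ∧ z ≠ unit6 i ∧ z ≠ -unit6 i ∧ dot (unit6 j) z = 0 := by
  decide +kernel

theorem corner_alg' : ∀ b₁ b₂ b₃ : ZMod 3, b₁ ≠ 0 ∧ b₂ ≠ 0 ∧ b₃ ≠ 0 ∧ b₁ + b₂ + b₃ ≠ 0 →
    ∀ c₁ c₂ c₄ : ZMod 3, c₁ ≠ 0 ∧ c₂ ≠ 0 ∧ c₄ ≠ 0 ∧ c₁ + c₂ + c₄ = 0 →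
    ∀ p : ZMod 3, p ≠ 0 ∧ p + c₁ * b₁ + c₂ * b₂ = 0 → b₂ = b₁ ∧ b₃ = -b₁ := by
  decide +kernel

theorem corner_alg (b₁ b₂ b₃ c₁ c₂ c₄ p : ZMod 3) (h1 : b₁ ≠ 0) (h2 : b₂ ≠ 0) (h3 : b₃ ≠ 0)
    (k1 : c₁ ≠ 0) (k2 : c₂ ≠ 0) (k4 : c₄ ≠ 0) (hp : p ≠ 0) (hb : b₁ + b₂ + b₃ ≠ 0)
    (hc : c₁ + c₂ + c₄ = 0) (he : p + c₁ * b₁ + c₂ * b₂ = 0) : b₂ = b₁ ∧ b₃ = -b₁ :=
  corner_alg' b₁ b₂ b₃ ⟨h1, h2, h3, hb⟩ c₁ c₂ c₄ ⟨k1, k2, k4, hc⟩ p ⟨hp, he⟩

namespace LFrame

variable {G : Type*} [Group G] [Finite G] {D : Set G} {a c w : G} (F : LFrame D a c w)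

include F

theorem unit_comm (i j : Fin 6) : Commute (F.t (unit6 i)) (F.t (unit6 j)) := by
  by_cases e : i = j
  · rw [e]
  · exact F.orth _ _ (unit_norm i) (unit_norm j) (unit_sep i j e).1

theorem unit_ne (i j : Fin 6) (e : i ≠ j) : F.t (unit6 i) ≠ F.t (unit6 j) := by
  obtain ⟨-, z, hz, h1, h2, h3, h4⟩ := unit_sep i j e
  intro e'
  exact F.inj _ z (unit_norm i) hz h1 h2 h3 (e' ▸ F.orth _ z (unit_norm j) hz h4)

/-- The coordinate of a commuting member at a basis member vanishes. -/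
theorem coord_zero {m : Fin 6 → G} (hm : ∀ i, F.t (unit6 i) = m i) {x : V} (hx : dot x x = 1)
    {i : Fin 6} (hc : Commute (F.t x) (m i)) (hne : F.t x ≠ m i) : x i = 0 := by
  rw [← dot_unit x i]
  exact F.dot_zero hx (unit_norm i) (by rw [hm]; exact hne) (by rw [hm]; exact hc)

theorem coord_ne {m : Fin 6 → G} (hm : ∀ i, F.t (unit6 i) = m i) {x : V} (hx : dot x x = 1)
    {i : Fin 6} (hc : ¬ Commute (F.t x) (m i)) : x i ≠ 0 := by
  rw [← dot_unit x i]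
  exact F.dot_ne hx (unit_norm i) (by rw [hm]; exact hc)

/-- Two members with given commutation at six basis members take standard coordinates after a
change of signs, when a third member tells the odd coordinate. -/
theorem corner (m : Fin 6 → G) (hm : ∀ i, F.t (unit6 i) = m i) {A B M : G}
    (hA : A ∈ CN D a c ∧ A ∈ nbrs D w) (hB : B ∈ CN D a c ∧ B ∈ nbrs D w)
    (hM : M ∈ CN D a c ∧ M ∈ nbrs D w)
    (hAc : ∀ i ∈ ([0, 5] : List (Fin 6)), Commute A (m i))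
    (hAn : ∀ i ∈ ([1, 2, 3, 4] : List (Fin 6)), ¬ Commute A (m i))
    (hBc : ∀ i ∈ ([4, 5] : List (Fin 6)), Commute B (m i))
    (hBn : ∀ i ∈ ([0, 1, 2, 3] : List (Fin 6)), ¬ Commute B (m i))
    (hMc : ∀ i ∈ ([3, 5] : List (Fin 6)), Commute M (m i))
    (hMn : ∀ i ∈ ([0, 1, 2, 4] : List (Fin 6)), ¬ Commute M (m i))
    (hAB : ¬ Commute A B) (hMA : Commute M A) (hMB : Commute M B) :
    ∃ F' : LFrame D a c w, (∀ i, F'.t (unit6 i) = m i) ∧ F'.t ![0, 1, 1, 1, 1, 0] = A ∧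
      F'.t ![1, 1, 1, 2, 0, 0] = B := by
  obtain ⟨u, hu, eu⟩ := F.surj A hA.1 hA.2
  obtain ⟨v, hv, ev⟩ := F.surj B hB.1 hB.2
  obtain ⟨r, hr, er⟩ := F.surj M hM.1 hM.2
  have cm : ∀ i j, Commute (m i) (m j) := fun i j => hm i ▸ hm j ▸ F.unit_comm i j
  have ne_m : ∀ {X : G} (i j : Fin 6), ¬ Commute X (m j) → X ≠ m i :=
    fun {X} i j hn e => hn (e ▸ cm i j)
  have uz : ∀ i ∈ ([0, 5] : List (Fin 6)), u i = 0 := fun i hi =>
    F.coord_zero hm hu (eu ▸ hAc i hi) (eu ▸ ne_m i 1 (hAn 1 (by simp)))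
  have vz : ∀ i ∈ ([4, 5] : List (Fin 6)), v i = 0 := fun i hi =>
    F.coord_zero hm hv (ev ▸ hBc i hi) (ev ▸ ne_m i 1 (hBn 1 (by simp)))
  have rz : ∀ i ∈ ([3, 5] : List (Fin 6)), r i = 0 := fun i hi =>
    F.coord_zero hm hr (er ▸ hMc i hi) (er ▸ ne_m i 1 (hMn 1 (by simp)))
  have un : ∀ i ∈ ([1, 2, 3, 4] : List (Fin 6)), u i ≠ 0 := fun i hi =>
    F.coord_ne hm hu (eu ▸ hAn i hi)
  have vn : ∀ i ∈ ([0, 1, 2, 3] : List (Fin 6)), v i ≠ 0 := fun i hi =>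
    F.coord_ne hm hv (ev ▸ hBn i hi)
  have rn : ∀ i ∈ ([0, 1, 2, 4] : List (Fin 6)), r i ≠ 0 := fun i hi =>
    F.coord_ne hm hr (er ▸ hMn i hi)
  have d1 : dot u v ≠ 0 := F.dot_ne hu hv (by rw [eu, ev]; exact hAB)
  have d2 : dot r u = 0 := F.dot_zero hr hu (by
    rw [er, eu]; exact fun e => hMn 0 (by simp) (e ▸ hAc 0 (by simp))) (by rw [er, eu]; exact hMA)
  have d3 : dot r v = 0 := F.dot_zero hr hv (by
    rw [er, ev]; exact fun e => hMn 4 (by simp) (e ▸ hBc 4 (by simp))) (by rw [er, ev]; exact hMB)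
  have sq : ∀ {x : ZMod 3}, x ≠ 0 → x * x = 1 := fun {x} hx =>
    (by decide : ∀ x : ZMod 3, x ≠ 0 → x * x = 1) x hx
  have q1 := sq (un 1 (by simp))
  have q2 := sq (un 2 (by simp))
  have q3 := sq (un 3 (by simp))
  simp only [dot, uz 0 (by simp), uz 5 (by simp), vz 4 (by simp), vz 5 (by simp), rz 3 (by simp),
    rz 5 (by simp), zero_mul, mul_zero, zero_add, add_zero] at d1 d2 d3
  obtain ⟨e2, e3⟩ := corner_alg (u 1 * v 1) (u 2 * v 2) (u 3 * v 3) (r 1 * u 1) (r 2 * u 2) (r 4 * u 4)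
    (r 0 * v 0) (mul_ne_zero (un 1 (by simp)) (vn 1 (by simp)))
    (mul_ne_zero (un 2 (by simp)) (vn 2 (by simp))) (mul_ne_zero (un 3 (by simp)) (vn 3 (by simp)))
    (mul_ne_zero (rn 1 (by simp)) (un 1 (by simp))) (mul_ne_zero (rn 2 (by simp)) (un 2 (by simp)))
    (mul_ne_zero (rn 4 (by simp)) (un 4 (by simp))) (mul_ne_zero (rn 0 (by simp)) (vn 0 (by simp)))
    d1 d2 (by linear_combination d3 + r 1 * v 1 * q1 + r 2 * v 2 * q2)
  obtain ⟨κ, eκ⟩ : ∃ κ, κ = u 1 * v 1 := ⟨_, rfl⟩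
  have hκ : κ * κ = 1 := sq (eκ ▸ mul_ne_zero (un 1 (by simp)) (vn 1 (by simp)))
  rw [← eκ] at e2 e3
  obtain ⟨σ, eσ⟩ : ∃ σ : Fin 6 → ZMod 3, σ = ![κ * v 0, u 1, u 2, u 3, u 4, 1] := ⟨_, rfl⟩
  have hσ : ∀ i, σ i * σ i = 1 := by
    intro i
    fin_cases i <;> rw [eσ]
    exacts [sq (mul_ne_zero (fun e => by simp [e] at hκ) (vn 0 (by simp))), q1, q2, q3,
      sq (un 4 (by simp)), one_mul 1]
  obtain ⟨vs, evs⟩ : ∃ vs : Fin 6 → V, vs = fun i k => σ i * unit6 i k := ⟨_, rfl⟩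
  have hvs : ∀ i j, dot (vs i) (vs j) = if i = j then 1 else 0 := by
    intro i j
    have e1 : dot (vs i) (vs j) = σ i * σ j * dot (unit6 i) (unit6 j) := by
      simp only [evs, dot]; ring
    rw [e1]
    by_cases e : i = j
    · subst e; rw [if_pos rfl, unit_norm, mul_one, hσ]
    · rw [if_neg e, (unit_sep i j e).1, mul_zero]
  have hcomb : ∀ x : V, comb vs x = fun k => x k * σ k := by
    intro x
    funext k
    rw [comb, Finset.sum_eq_single k (fun j _ hj => by simp [evs, unit6, Ne.symm hj]) (by simp)]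
    simp [evs, unit6]
  refine ⟨F.retarget vs hvs, fun i => ?_, ?_, ?_⟩
  · show F.t (comb vs (unit6 i)) = m i
    rw [comb_unit, evs, ← hm i]
    rcases (by decide : ∀ x : ZMod 3, x * x = 1 → x = 1 ∨ x = -1) _ (hσ i) with e | e
    · congr 1; funext k; simp [e]
    · rw [← F.neg _ (unit_norm i)]; congr 1; funext k; simp [e]
  · show F.t (comb vs _) = A
    rw [hcomb, ← eu]
    congr 1
    funext k
    fin_cases k <;> simp [eσ, uz 0 (by simp), uz 5 (by simp)]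
  · show F.t (comb vs _) = B
    have e : (fun k => (![1, 1, 1, 2, 0, 0] : V) k * σ k) = fun k => κ * v k := by
      funext k
      fin_cases k <;> simp [eσ, vz 4 (by simp), vz 5 (by simp)]
      · linear_combination (- v 1) * eκ - u 1 * sq (vn 1 (by simp))
      · linear_combination (v 2) * e2 - u 2 * sq (vn 2 (by simp))
      · have h2 : (2 : ZMod 3) = -1 := by decide
        linear_combination u 3 * h2 - v 3 * e3 + u 3 * sq (vn 3 (by simp))
    rw [hcomb, e, ← ev]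
    rcases (by decide : ∀ x : ZMod 3, x * x = 1 → x = 1 ∨ x = -1) κ hκ with e' | e'
    · congr 1; funext k; simp [e']
    · rw [← F.neg v hv]; congr 1; funext k; simp [e']

end LFrame

/-- Coordinates of six nodes in the frame at the node `3`. -/
def vec6 (x : ℕ) : V :=
  if x = 1 then unit6 5 else if x = 0 then ![0, 0, 1, 1, 1, 1]
  else if x = 5 then ![0, 1, 1, 1, 2, 0] else if x = 6 then unit6 1
  else if x = 7 then ![1, 0, 1, 1, 2, 0] else unit6 0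

theorem vec6_ok : ∀ x ∈ [0, 1, 5, 6, 7, 8], dot (vec6 x) (vec6 x) = 1 ∧ ∀ y ∈ [0, 1, 5, 6, 7, 8],
    (lab11 x y = 2 → dot (vec6 x) (vec6 y) = 0) ∧
    (lab11 x y = 3 → dot (vec6 x) (vec6 y) ≠ 0 ∧ vec6 y ≠ vec6 x ∧ vec6 y ≠ -vec6 x) := by
  decide +kernel

theorem no_theta_alg : ∀ x : V, dot x x = 1 → x 0 = 0 → x 5 = 0 →
    dot x ![0, 1, 1, 1, 1, 0] = 0 → dot x ![0, 0, 1, 1, 1, 1] = 0 → False := by
  decide +kernel

theorem two_alg : ∀ x : V, dot x x = 1 → x 0 = 0 → x 1 = 0 → x 2 ≠ 0 → x 3 ≠ 0 → x 4 ≠ 0 →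
    dot x ![0, 1, 1, 1, 1, 0] = 0 → dot x ![1, 1, 1, 2, 0, 0] = 0 := by
  decide +kernel

variable {G : Type*} [Group G] [Finite G] {d : G} (h : Cen d)
include h

/-- Eight common neighbours in the shape `Y₃₂₂`, with nothing further commuting with seven. -/
theorem eight_nodes {a c w : G} (ha : a ∈ conjugatesOf d) (hc : c ∈ conjugatesOf d)
    (hac : ¬ Commute a c) (hw : w ∈ CN (conjugatesOf d) a c) :
    ∃ y : ℕ → G, (∀ x ∈ nodes8, y x ∈ CN (conjugatesOf d) a c) ∧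
      (∀ x ∈ nodes8, ∀ z ∈ nodes8, (lab11 x z = 2 → Commute (y x) (y z)) ∧
        (lab11 x z = 3 → ¬ Commute (y x) (y z))) ∧
      ∀ T ∈ CN (conjugatesOf d) a c, ¬ ∀ x ∈ [0, 2, 3, 5, 6, 7, 8], Commute T (y x) := by
  obtain ⟨F⟩ := exists_lframe h ha hc hac hw
  obtain ⟨H, eH⟩ : ∃ H : Fin 6 → G, ∀ i, H i = F.t (unit6 i) := ⟨_, fun _ => rfl⟩
  have hmem : ∀ i, H i ∈ CN (conjugatesOf d) a c ∧ H i ∈ nbrs (conjugatesOf d) w := fun i =>
    eH i ▸ F.mem _ (unit_norm i)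
  have hne : ∀ i j, i ≠ j → H i ≠ H j := fun i j e => by rw [eH, eH]; exact F.unit_ne i j e
  have hcm : ∀ i j, Commute (H i) (H j) := fun i j => by rw [eH, eH]; exact F.unit_comm i j
  have hHw : ∀ i, w ≠ H i ∧ Commute w (H i) := fun i => ⟨Ne.symm (hmem i).2.2.1, (hmem i).2.2.2⟩
  obtain ⟨Y, eY⟩ : ∃ Y : ℕ → G, Y = fun x => F.t (vec6 x) := ⟨_, rfl⟩
  have m6 : ∀ x ∈ [0, 1, 5, 6, 7, 8], Y x ∈ CN (conjugatesOf d) a c ∧
      Y x ∈ nbrs (conjugatesOf d) w := fun x hx => eY ▸ F.mem _ (vec6_ok x hx).1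
  have Y2 : ∀ x ∈ [0, 1, 5, 6, 7, 8], ∀ z ∈ [0, 1, 5, 6, 7, 8], lab11 x z = 2 →
      Commute (Y x) (Y z) := fun x hx z hz e =>
    eY ▸ F.orth _ _ (vec6_ok x hx).1 (vec6_ok z hz).1 (((vec6_ok x hx).2 z hz).1 e)
  have Y3 : ∀ x ∈ [0, 1, 5, 6, 7, 8], ∀ z ∈ [0, 1, 5, 6, 7, 8], lab11 x z = 3 →
      ¬ Commute (Y x) (Y z) := fun x hx z hz e =>
    let ⟨a1, a2, a3⟩ := ((vec6_ok x hx).2 z hz).2 e
    eY ▸ F.inj _ _ (vec6_ok x hx).1 (vec6_ok z hz).1 a1 a2 a3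
  have e8 : Y 8 = H 0 := by rw [eH, eY]; rfl
  have e6 : Y 6 = H 1 := by rw [eH, eY]; rfl
  have e1 : Y 1 = H 5 := by rw [eH, eY]; rfl
  -- vectors against the basis
  have vc : ∀ {x : V} (i : Fin 6), dot x x = 1 → x i = 0 → Commute (F.t x) (H i) := fun {x} i hx e => by
    rw [eH]; exact F.orth _ _ hx (unit_norm i) (by rw [dot_unit]; exact e)
  have vn : ∀ {x : V} (i : Fin 6), dot x x = 1 → x i ≠ 0 → unit6 i ≠ x → unit6 i ≠ -x →
      ¬ Commute (F.t x) (H i) := fun {x} i hx e h1 h2 => by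
    rw [eH]; exact F.inj _ _ hx (unit_norm i) (by rw [dot_unit]; exact e) h1 h2
  obtain ⟨M₈, eM₈⟩ : ∃ M, M = F.t ![0, 1, 1, 1, 0, 1] := ⟨_, rfl⟩
  obtain ⟨M₆, eM₆⟩ : ∃ M, M = F.t ![1, 0, 1, 1, 0, 1] := ⟨_, rfl⟩
  have n8 : dot ![0, 1, 1, 1, 0, 1] ![0, 1, 1, 1, 0, 1] = 1 := by decide
  have n6 : dot ![1, 0, 1, 1, 0, 1] ![1, 0, 1, 1, 0, 1] = 1 := by decide
  have near : ∀ {x : V} (i j : Fin 6), dot x x = 1 → x i = 0 → x j ≠ 0 → unit6 j ≠ x → unit6 j ≠ -x →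
      F.t x ∈ CN (conjugatesOf d) a c ∧ F.t x ∈ nbrs (conjugatesOf d) (H i) := fun {x} i j hx e e' h1 h2 =>
    ⟨(F.mem x hx).1, (F.mem x hx).1.1, fun e'' => vn j hx e' h1 h2 (e'' ▸ hcm i j), (vc i hx e).symm⟩
  -- the frame at the node `8`
  obtain ⟨K⟩ := exists_lframe h ha hc hac (hmem 0).1
  obtain ⟨m₈, em₈⟩ : ∃ m : Fin 6 → G, m = ![H 1, H 2, H 3, H 4, H 5, w] := ⟨_, rfl⟩
  have hm₈ : ∀ i, m₈ i ∈ CN (conjugatesOf d) a c ∧ m₈ i ∈ nbrs (conjugatesOf d) (H 0) := by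
    intro i
    fin_cases i <;> rw [em₈]
    all_goals first
      | exact ⟨hw, hw.1, (hHw 0).1, (hHw 0).2.symm⟩
      | exact ⟨(hmem _).1, (hmem _).1.1, hne _ _ (by decide), hcm _ _⟩
  obtain ⟨K₁, hK₁⟩ := K.exists_retarget m₈ hm₈ (by
    intro i j e
    fin_cases i <;> fin_cases j <;> rw [em₈] <;> first
      | exact absurd rfl e | exact (hHw _).1 | exact (hHw _).1.symm | exact hne _ _ (by decide))
    (by intro i j; fin_cases i <;> fin_cases j <;> rw [em₈] <;> first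
      | exact Commute.refl _ | exact (hHw _).2 | exact (hHw _).2.symm | exact hcm _ _)
  have v0n : dot (vec6 0) (vec6 0) = 1 := by decide
  have v5n : dot (vec6 5) (vec6 5) = 1 := by decide
  have v7n : dot (vec6 7) (vec6 7) = 1 := by decide
  have wY : ∀ x ∈ [0, 1, 5, 6, 7, 8], Commute (Y x) w := fun x hx => (m6 x hx).2.2.2.symm
  obtain ⟨F₈, hF₈, A₈, B₈⟩ := K₁.corner m₈ hK₁ (A := Y 0) (B := Y 5) (M := M₈)
    (eY ▸ near 0 2 v0n (by decide) (by decide) (by decide) (by decide))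
    (eY ▸ near 0 2 v5n (by decide) (by decide) (by decide) (by decide))
    (eM₈ ▸ near 0 2 n8 (by decide) (by decide) (by decide) (by decide))
    (by intro i hi; simp only [List.mem_cons, List.not_mem_nil, or_false] at hi
        rcases hi with rfl | rfl <;> rw [em₈]
        exacts [eY ▸ vc 1 v0n (by decide), wY 0 (by simp)])
    (by intro i hi; simp only [List.mem_cons, List.not_mem_nil, or_false] at hi
        rcases hi with rfl | rfl | rfl | rfl <;> rw [em₈, eY] <;>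
          exact vn _ v0n (by decide) (by decide) (by decide))
    (by intro i hi; simp only [List.mem_cons, List.not_mem_nil, or_false] at hi
        rcases hi with rfl | rfl <;> rw [em₈]
        exacts [eY ▸ vc 5 v5n (by decide), wY 5 (by simp)])
    (by intro i hi; simp only [List.mem_cons, List.not_mem_nil, or_false] at hi
        rcases hi with rfl | rfl | rfl | rfl <;> rw [em₈, eY] <;>
          exact vn _ v5n (by decide) (by decide) (by decide))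
    (by intro i hi; simp only [List.mem_cons, List.not_mem_nil, or_false] at hi
        rcases hi with rfl | rfl <;> rw [em₈, eM₈]
        exacts [vc 4 n8 (by decide), (F.mem _ n8).2.2.2.symm])
    (by intro i hi; simp only [List.mem_cons, List.not_mem_nil, or_false] at hi
        rcases hi with rfl | rfl | rfl | rfl <;> rw [em₈, eM₈] <;>
          exact vn _ n8 (by decide) (by decide) (by decide))
    (Y3 0 (by simp) 5 (by simp) (by decide))
    (eM₈ ▸ eY ▸ F.orth _ _ n8 v0n (by decide))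
    (eM₈ ▸ eY ▸ F.orth _ _ n8 v5n (by decide))
  -- the node `2`
  obtain ⟨z₂, ez₂⟩ : ∃ z₂, z₂ = F₈.t ![0, 0, 1, 1, 1, 1] := ⟨_, rfl⟩
  have nz : dot ![0, 0, 1, 1, 1, 1] ![0, 0, 1, 1, 1, 1] = 1 := by decide
  obtain ⟨z2m, z2n⟩ : z₂ ∈ CN (conjugatesOf d) a c ∧ z₂ ∈ nbrs (conjugatesOf d) (H 0) :=
    ez₂ ▸ F₈.mem _ nz
  have zc : ∀ i : Fin 6, (![0, 0, 1, 1, 1, 1] : V) i = 0 → Commute z₂ (m₈ i) := fun i e => by
    rw [ez₂, ← hF₈ i]; exact F₈.orth _ _ nz (unit_norm i) (by rw [dot_unit]; exact e)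
  have zn : ∀ i : Fin 6, (![0, 0, 1, 1, 1, 1] : V) i ≠ 0 → ¬ Commute z₂ (m₈ i) := fun i e => by
    rw [ez₂, ← hF₈ i]
    refine F₈.inj _ _ nz (unit_norm i) (by rw [dot_unit]; exact e) ?_ ?_
    · exact (by decide +kernel : ∀ i : Fin 6, unit6 i ≠ ![0, 0, 1, 1, 1, 1]) i
    · exact (by decide +kernel : ∀ i : Fin 6, unit6 i ≠ -![0, 0, 1, 1, 1, 1]) i
  have z_6 : Commute z₂ (H 1) := by simpa [em₈] using zc 0 (by decide)
  have z_h2 : Commute z₂ (H 2) := by simpa [em₈] using zc 1 (by decide)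
  have z_h3 : ¬ Commute z₂ (H 3) := by simpa [em₈] using zn 2 (by decide)
  have z_h4 : ¬ Commute z₂ (H 4) := by simpa [em₈] using zn 3 (by decide)
  have z_1 : ¬ Commute z₂ (H 5) := by simpa [em₈] using zn 4 (by decide)
  have z_3 : ¬ Commute z₂ w := by simpa [em₈] using zn 5 (by decide)
  have z_8 : Commute z₂ (H 0) := z2n.2.2.symm
  have z_0 : Commute z₂ (Y 0) := by
    rw [ez₂, ← A₈]; exact F₈.orth _ _ nz (by decide) (by decide)
  have z_5 : Commute z₂ (Y 5) := by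
    rw [ez₂, ← B₈]; exact F₈.orth _ _ nz (by decide) (by decide)
  have zne : ∀ {X : G}, Commute X w → z₂ ≠ X := fun hX e => z_3 (e ▸ hX)
  -- the frame at the node `6`
  obtain ⟨L⟩ := exists_lframe h ha hc hac (hmem 1).1
  obtain ⟨m₆, em₆⟩ : ∃ m : Fin 6 → G, m = ![H 0, H 2, H 3, H 4, H 5, w] := ⟨_, rfl⟩
  have hm₆ : ∀ i, m₆ i ∈ CN (conjugatesOf d) a c ∧ m₆ i ∈ nbrs (conjugatesOf d) (H 1) := by
    intro i
    fin_cases i <;> rw [em₆]
    all_goals first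
      | exact ⟨hw, hw.1, (hHw 1).1, (hHw 1).2.symm⟩
      | exact ⟨(hmem _).1, (hmem _).1.1, hne _ _ (by decide), hcm _ _⟩
  obtain ⟨L₁, hL₁⟩ := L.exists_retarget m₆ hm₆ (by
    intro i j e
    fin_cases i <;> fin_cases j <;> rw [em₆] <;> first
      | exact absurd rfl e | exact (hHw _).1 | exact (hHw _).1.symm | exact hne _ _ (by decide))
    (by intro i j; fin_cases i <;> fin_cases j <;> rw [em₆] <;> first
      | exact Commute.refl _ | exact (hHw _).2 | exact (hHw _).2.symm | exact hcm _ _)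
  obtain ⟨F₆, hF₆, A₆, B₆⟩ := L₁.corner m₆ hL₁ (A := Y 0) (B := Y 7) (M := M₆)
    (eY ▸ near 1 2 v0n (by decide) (by decide) (by decide) (by decide))
    (eY ▸ near 1 2 v7n (by decide) (by decide) (by decide) (by decide))
    (eM₆ ▸ near 1 2 n6 (by decide) (by decide) (by decide) (by decide))
    (by intro i hi; simp only [List.mem_cons, List.not_mem_nil, or_false] at hi
        rcases hi with rfl | rfl <;> rw [em₆]
        exacts [eY ▸ vc 0 v0n (by decide), wY 0 (by simp)])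
    (by intro i hi; simp only [List.mem_cons, List.not_mem_nil, or_false] at hi
        rcases hi with rfl | rfl | rfl | rfl <;> rw [em₆, eY] <;>
          exact vn _ v0n (by decide) (by decide) (by decide))
    (by intro i hi; simp only [List.mem_cons, List.not_mem_nil, or_false] at hi
        rcases hi with rfl | rfl <;> rw [em₆]
        exacts [eY ▸ vc 5 v7n (by decide), wY 7 (by simp)])
    (by intro i hi; simp only [List.mem_cons, List.not_mem_nil, or_false] at hi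
        rcases hi with rfl | rfl | rfl | rfl <;> rw [em₆, eY] <;>
          exact vn _ v7n (by decide) (by decide) (by decide))
    (by intro i hi; simp only [List.mem_cons, List.not_mem_nil, or_false] at hi
        rcases hi with rfl | rfl <;> rw [em₆, eM₆]
        exacts [vc 4 n6 (by decide), (F.mem _ n6).2.2.2.symm])
    (by intro i hi; simp only [List.mem_cons, List.not_mem_nil, or_false] at hi
        rcases hi with rfl | rfl | rfl | rfl <;> rw [em₆, eM₆] <;>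
          exact vn _ n6 (by decide) (by decide) (by decide))
    (Y3 0 (by simp) 7 (by simp) (by decide))
    (eM₆ ▸ eY ▸ F.orth _ _ n6 v0n (by decide))
    (eM₆ ▸ eY ▸ F.orth _ _ n6 v7n (by decide))
  obtain ⟨x, hx, ex⟩ := F₆.surj z₂ z2m ⟨z2m.1, zne (hHw 1).2.symm, z_6.symm⟩
  have z_7 : Commute z₂ (Y 7) := by
    rw [← ex, ← B₆]
    refine F₆.orth _ _ hx (by decide) (two_alg x hx ?_ ?_ ?_ ?_ ?_ ?_)
    · exact F₆.coord_zero hF₆ hx (by rw [ex]; simpa [em₆] using z_8)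
        (by rw [ex]; simpa [em₆] using zne (hHw 0).2.symm)
    · exact F₆.coord_zero hF₆ hx (by rw [ex]; simpa [em₆] using z_h2)
        (by rw [ex]; simpa [em₆] using zne (hHw 2).2.symm)
    · exact F₆.coord_ne hF₆ hx (by rw [ex]; simpa [em₆] using z_h3)
    · exact F₆.coord_ne hF₆ hx (by rw [ex]; simpa [em₆] using z_h4)
    · exact F₆.coord_ne hF₆ hx (by rw [ex]; simpa [em₆] using z_1)
    · exact F₆.dot_zero hx (by decide) (by rw [ex, A₆]; exact zne (wY 0 (by simp)))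
        (by rw [ex, A₆]; exact z_0)
  -- the eight
  obtain ⟨y, ey⟩ : ∃ y : ℕ → G, y = fun x => if x = 3 then w else if x = 2 then z₂ else Y x :=
    ⟨_, rfl⟩
  have y3 : y 3 = w := by rw [ey]; simp
  have y2 : y 2 = z₂ := by rw [ey]; simp
  have yo : ∀ x ∈ [0, 1, 5, 6, 7, 8], y x = Y x := fun x hx => by
    have : x ≠ 3 ∧ x ≠ 2 := (by decide : ∀ x ∈ [0, 1, 5, 6, 7, 8], x ≠ 3 ∧ x ≠ 2) x hx
    rw [ey]; simp [this.1, this.2]
  have hcase : ∀ x ∈ nodes8, x = 3 ∨ x = 2 ∨ x ∈ [0, 1, 5, 6, 7, 8] := by decide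
  have z2o : ∀ x ∈ [0, 5, 6, 7, 8], Commute z₂ (Y x) := by
    intro x hx
    simp only [List.mem_cons, List.not_mem_nil, or_false] at hx
    rcases hx with rfl | rfl | rfl | rfl | rfl
    exacts [z_0, z_5, e6 ▸ z_6, z_7, e8 ▸ z_8]
  have two : ∀ x ∈ [0, 1, 5, 6, 7, 8], (lab11 2 x = 2 → Commute z₂ (Y x)) ∧
      (lab11 2 x = 3 → ¬ Commute z₂ (Y x)) := by
    intro x hx
    by_cases e : x = 1
    · subst e; exact ⟨fun e' => absurd e' (by decide), fun _ => e1 ▸ z_1⟩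
    · refine ⟨fun _ => z2o x ((by decide : ∀ x ∈ [0, 1, 5, 6, 7, 8], x ≠ 1 → x ∈ [0, 5, 6, 7, 8]) x hx e),
        fun e' => absurd e' ((by decide : ∀ x ∈ [0, 1, 5, 6, 7, 8], x ≠ 1 → lab11 2 x ≠ 3) x hx e)⟩
  have lsymm : ∀ x ∈ nodes8, ∀ z ∈ nodes8, lab11 x z = lab11 z x := by decide
  refine ⟨y, fun x hx => ?_, fun x hx z hz => ?_, fun T hT hall => ?_⟩
  · rcases hcase x hx with rfl | rfl | hx'
    · rw [y3]; exact hw
    · rw [y2]; exact z2m
    · rw [yo x hx']; exact (m6 x hx').1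
  · rcases hcase x hx with rfl | rfl | hx' <;> rcases hcase z hz with rfl | rfl | hz'
    · exact ⟨fun e => absurd e (by decide), fun e => absurd e (by decide)⟩
    · rw [y3, y2]; exact ⟨fun e => absurd e (by decide), fun _ e => z_3 e.symm⟩
    · rw [y3, yo z hz']
      exact ⟨fun _ => (wY z hz').symm,
        fun e => absurd e ((by decide : ∀ z ∈ [0, 1, 5, 6, 7, 8], lab11 3 z ≠ 3) z hz')⟩
    · rw [y2, y3]; exact ⟨fun e => absurd e (by decide), fun _ => z_3⟩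
    · exact ⟨fun e => absurd e (by decide), fun e => absurd e (by decide)⟩
    · rw [y2, yo z hz']; exact two z hz'
    · rw [yo x hx', y3]
      exact ⟨fun _ => wY x hx',
        fun e => absurd e ((by decide : ∀ z ∈ [0, 1, 5, 6, 7, 8], lab11 z 3 ≠ 3) x hx')⟩
    · rw [yo x hx', y2]
      exact ⟨fun e => ((two x hx').1 (lsymm 2 hz x hx ▸ e)).symm,
        fun e e' => (two x hx').2 (lsymm 2 hz x hx ▸ e) e'.symm⟩
    · rw [yo x hx', yo z hz']
      exact ⟨Y2 x hx' z hz', Y3 x hx' z hz'⟩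
  · have c : ∀ x ∈ [0, 5, 6, 7, 8], Commute T (Y x) := fun x hx => by
      rw [← yo x ((by decide : ∀ x ∈ [0, 5, 6, 7, 8], x ∈ [0, 1, 5, 6, 7, 8]) x hx)]
      exact hall x ((by decide : ∀ x ∈ [0, 5, 6, 7, 8], x ∈ [0, 2, 3, 5, 6, 7, 8]) x hx)
    have cw : Commute T w := y3 ▸ hall 3 (by simp)
    have cz : Commute T z₂ := y2 ▸ hall 2 (by simp)
    have tn8 : T ∈ nbrs (conjugatesOf d) (H 0) := ⟨hT.1, fun e => Y3 8 (by simp) 7 (by simp) (by decide)
      (by rw [e8, ← e]; exact c 7 (by simp)), (e8 ▸ c 8 (by simp)).symm⟩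
    obtain ⟨r, hr, er⟩ := F₈.surj T hT tn8
    refine no_theta_alg r hr ?_ ?_ ?_ ?_
    · refine F₈.coord_zero hF₈ hr ?_ ?_
      · rw [er]; simpa [em₈] using e6 ▸ c 6 (by simp)
      · rw [er]; simp [em₈]
        exact fun e => Y3 6 (by simp) 5 (by simp) (by decide) (by rw [e6, ← e]; exact c 5 (by simp))
    · refine F₈.coord_zero hF₈ hr ?_ ?_
      · rw [er]; simpa [em₈] using cw
      · rw [er]; simp [em₈]
        exact fun e => z_3 (e ▸ cz.symm)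
    · refine F₈.dot_zero hr (by decide) ?_ (by rw [er, A₈]; exact c 0 (by simp))
      rw [er, A₈]
      exact fun e => Y3 0 (by simp) 5 (by simp) (by decide) (e ▸ c 5 (by simp))
    · refine F₈.dot_zero hr (by decide) ?_ (by rw [er, ← ez₂]; exact cz)
      rw [er, ← ez₂]
      exact fun e => z_3 (e ▸ cw)

end CfsgLib.InvChar.Fi23Inv
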