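import Cfsg.Agent.Lib.InvChar.Fi23Inv.Comp
import Cfsg.Agent.Lib.Trans3.FiConf.Common

/-!
The common neighbours of a non-commuting pair that are adjacent to one of them, in six coordinates:
a change to any orthonormal six of given members, and the bound 126.
-/

set_option autoImplicit false
set_option linter.unusedSectionVars false
set_option maxRecDepth 100000

namespace CfsgLib.InvChar.Fi23Inv

open CfsgLib.Trans3 CfsgLib.Trans3.Fi CfsgLib.Trans3.FiConf

local notation "V" => Fin 6 → ZMod 3

/-- The standard vectors. -/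
def unit6 (i : Fin 6) : V := fun k => if k = i then 1 else 0

theorem dot_eq_sum (x y : V) : dot x y = ∑ k, x k * y k := by
  rw [Fin.sum_univ_six]; rfl

theorem dot_unit (x : V) (i : Fin 6) : dot x (unit6 i) = x i := by
  rw [dot_eq_sum, Finset.sum_eq_single i (fun k _ hk => by simp [unit6, hk]) (by simp)]
  simp [unit6]

theorem dot_symm (x y : V) : dot x y = dot y x := by
  simp only [dot, mul_comm]

/-- The linear map taking the standard vectors to `v`. -/
def comb (v : Fin 6 → V) (x : V) : V := fun k => ∑ i, x i * v i k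

theorem comb_unit (v : Fin 6 → V) (i : Fin 6) : comb v (unit6 i) = v i := by
  funext k
  rw [comb, Finset.sum_eq_single i (fun j _ hj => by simp [unit6, hj]) (by simp)]
  simp [unit6]

theorem comb_neg (v : Fin 6 → V) (x : V) : comb v (-x) = -comb v x := by
  funext k; simp [comb, Finset.sum_neg_distrib]

theorem comb_dot {v : Fin 6 → V} (hv : ∀ i j, dot (v i) (v j) = if i = j then 1 else 0) (x y : V) :
    dot (comb v x) (comb v y) = dot x y := by
  have h1 : dot (comb v x) (comb v y) = ∑ i, ∑ j, x j * y i * dot (v j) (v i) := by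
    simp only [dot_eq_sum, comb, Finset.sum_mul, Finset.mul_sum]
    rw [Finset.sum_comm]
    refine Finset.sum_congr rfl fun i _ => ?_
    rw [Finset.sum_comm]
    exact Finset.sum_congr rfl fun j _ => Finset.sum_congr rfl fun k _ => by ring
  rw [h1, dot_eq_sum]
  exact Finset.sum_congr rfl fun i _ => by simp [hv]

theorem comb_inj {v : Fin 6 → V} (hv : ∀ i j, dot (v i) (v j) = if i = j then 1 else 0) :
    Function.Injective (comb v) := fun x y e => by
  funext i
  rw [← dot_unit x i, ← dot_unit y i, ← comb_dot hv x, ← comb_dot hv y, e]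

theorem comb_surj {v : Fin 6 → V} (hv : ∀ i j, dot (v i) (v j) = if i = j then 1 else 0) :
    Function.Surjective (comb v) :=
  Finite.surjective_of_injective (comb_inj hv)

theorem dot_neg_left (x y : V) : dot (-x) y = -dot x y := by
  simp [dot_eq_sum, Finset.sum_neg_distrib]

/-- A vector of norm one orthogonal to `x`, meeting two coordinates of its support. -/
def orthWit (x : V) (i j : Fin 6) : V := fun k =>
  if k = i then x i else if k = j then -x j else if x k = 0 then 1 else 0

theorem orthWit_ok : ∀ x : V, dot x x = 1 → ∀ i j : Fin 6, x i ≠ 0 → x j ≠ 0 → i ≠ j →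
    dot (orthWit x i j) (orthWit x i j) = 1 ∧ dot x (orthWit x i j) = 0 := by
  decide +kernel

/-- What is orthogonal to every norm-one vector orthogonal to `x` is a multiple of `x`. -/
theorem perp_line {x y : V} (hx : dot x x = 1) (hy : dot y y = 1)
    (h : ∀ z : V, dot z z = 1 → dot x z = 0 → dot y z = 0) : y = x ∨ y = -x := by
  have h0 : ∀ k, x k = 0 → y k = 0 := fun k hk => by
    rw [← dot_unit y k]
    exact h _ (by rw [dot_unit]; simp [unit6]) (by rw [dot_unit, hk])
  obtain ⟨i, hi⟩ : ∃ i, x i ≠ 0 := by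
    by_contra! e
    rw [dot_eq_sum] at hx
    simp [e] at hx
  have hp : ∀ j, x j ≠ 0 → x j * y j = x i * y i := by
    intro j hj
    by_cases hij : i = j
    · rw [hij]
    obtain ⟨w1, w2⟩ := orthWit_ok x hx i j hi hj hij
    have h3 := h _ w1 w2
    rw [dot_eq_sum, Finset.sum_eq_add (f := fun k => y k * orthWit x i j k) i j hij
      (fun k _ hk => by
        by_cases e : x k = 0
        · simp [h0 k e]
        · simp [orthWit, hk.1, hk.2, e]) (by simp) (by simp)] at h3
    simp [orthWit, Ne.symm hij] at h3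
    linear_combination -h3
  have hcube : ∀ a : ZMod 3, a ≠ 0 → a * a = 1 := by decide
  have hk : ∀ k, y k = x i * y i * x k := by
    intro k
    by_cases e : x k = 0
    · rw [e, h0 k e, mul_zero]
    · rw [← hp k e, mul_comm (x k) (y k), mul_assoc, hcube _ e, mul_one]
  have hyk : y = fun k => x i * y i * x k := funext hk
  have hκ : (x i * y i) * (x i * y i) = 1 := by
    have e1 : dot y y = (x i * y i) * (x i * y i) * dot x x := by
      conv_lhs => rw [hyk]
      simp only [dot_eq_sum, Finset.mul_sum]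
      exact Finset.sum_congr rfl fun k _ => by ring
    rw [hy, hx, mul_one] at e1
    exact e1.symm
  rcases (by decide : ∀ a : ZMod 3, a * a = 1 → a = 1 ∨ a = -1) _ hκ with e | e
  · exact Or.inl (funext fun k => by rw [hk k, e, one_mul])
  · exact Or.inr (funext fun k => by rw [hk k, e, neg_one_mul, Pi.neg_apply])

variable {G : Type*} [Group G] [Finite G] {d : G}

/-- The common neighbours of `a` and `c` next to `w`, in coordinates. -/
structure LFrame (D : Set G) (a c w : G) where
  /-- the member of a vector of norm one -/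
  t : V → G
  mem : ∀ x, dot x x = 1 → t x ∈ CN D a c ∧ t x ∈ nbrs D w
  surj : ∀ y ∈ CN D a c, y ∈ nbrs D w → ∃ x, dot x x = 1 ∧ t x = y
  orth : ∀ x y, dot x x = 1 → dot y y = 1 → dot x y = 0 → Commute (t x) (t y)
  noncomm : ∀ x y, dot x x = 1 → dot y y = 1 → dot x y ≠ 0 → t x ≠ t y → ¬ Commute (t x) (t y)
  inj : ∀ x y, dot x x = 1 → dot y y = 1 → dot x y ≠ 0 → y ≠ x → y ≠ -x → ¬ Commute (t x) (t y)
  neg : ∀ x, dot x x = 1 → t (-x) = t x

namespace LFrame

variable {D : Set G} {a c w : G} (F : LFrame D a c w)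

/-- Distinct commuting images have orthogonal vectors. -/
theorem dot_zero {x y : V} (hx : dot x x = 1) (hy : dot y y = 1) (hne : F.t x ≠ F.t y)
    (hc : Commute (F.t x) (F.t y)) : dot x y = 0 := by
  by_contra e; exact F.noncomm x y hx hy e hne hc

theorem dot_ne {x y : V} (hx : dot x x = 1) (hy : dot y y = 1)
    (hc : ¬ Commute (F.t x) (F.t y)) : dot x y ≠ 0 := fun e => hc (F.orth x y hx hy e)

/-- The coordinates in a given orthonormal six. -/
def retarget (v : Fin 6 → V) (hv : ∀ i j, dot (v i) (v j) = if i = j then 1 else 0) :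
    LFrame D a c w where
  t x := F.t (comb v x)
  mem x hx := F.mem _ (by rw [comb_dot hv]; exact hx)
  surj y hy hy' := by
    obtain ⟨x, hx, e⟩ := F.surj y hy hy'
    obtain ⟨x', rfl⟩ := comb_surj hv x
    exact ⟨x', by rwa [comb_dot hv] at hx, e⟩
  orth x y hx hy e := F.orth _ _ (by rwa [comb_dot hv]) (by rwa [comb_dot hv]) (by rwa [comb_dot hv])
  noncomm x y hx hy e hne :=
    F.noncomm _ _ (by rwa [comb_dot hv]) (by rwa [comb_dot hv]) (by rwa [comb_dot hv]) hne
  inj x y hx hy e h1 h2 := F.inj _ _ (by rwa [comb_dot hv]) (by rwa [comb_dot hv])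
    (by rwa [comb_dot hv]) (fun e' => h1 (comb_inj hv e'))
    (fun e' => h2 (comb_inj hv (by rw [e', comb_neg])))
  neg x hx := by
    show F.t (comb v (-x)) = F.t (comb v x)
    rw [comb_neg]
    exact F.neg _ (by rw [comb_dot hv]; exact hx)

include F in
/-- Six pairwise commuting members as the standard basis. -/
theorem exists_retarget (m : Fin 6 → G) (hm : ∀ i, m i ∈ CN D a c ∧ m i ∈ nbrs D w)
    (hne : ∀ i j, i ≠ j → m i ≠ m j) (hcm : ∀ i j, Commute (m i) (m j)) :
    ∃ F' : LFrame D a c w, ∀ i, F'.t (unit6 i) = m i := by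
  choose v hv hvm using fun i => F.surj (m i) (hm i).1 (hm i).2
  have ho : ∀ i j, dot (v i) (v j) = if i = j then 1 else 0 := fun i j => by
    by_cases e : i = j
    · subst e; rw [if_pos rfl, hv]
    · rw [if_neg e]
      exact F.dot_zero (hv i) (hv j) (by rw [hvm, hvm]; exact hne i j e) (by rw [hvm, hvm]; exact hcm i j)
  refine ⟨F.retarget v ho, fun i => ?_⟩
  show F.t (comb v (unit6 i)) = m i
  rw [comb_unit, hvm]

end LFrame

variable (h : Cen d)
include h

/-- The frame at a common neighbour. -/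
theorem exists_lframe {a c w : G} (ha : a ∈ conjugatesOf d) (hc : c ∈ conjugatesOf d)
    (hac : ¬ Commute a c) (hw : w ∈ CN (conjugatesOf d) a c) :
    Nonempty (LFrame (conjugatesOf d) a c w) := by
  classical
  have hwD := hw.1
  have na : a ∈ nbrs (conjugatesOf d) w := ⟨ha, fun e => hac (e.symm ▸ hw.2.2.symm), hw.2.1.symm⟩
  have nc : c ∈ nbrs (conjugatesOf d) w := ⟨hc, fun e => hac (e.symm ▸ hw.2.1), hw.2.2.symm⟩
  obtain ⟨F⟩ := exists_frame (loc_group h hwD) (loc_prim h hwD) (loc_m22 h hwD) (bar_mem na)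
    (bar_mem nc) fun e => hac ((loc_commute h hwD na nc).1 e)
  have get : ∀ x, ∃ y : G, dot x x = 1 → ∃ hy : y ∈ nbrs (conjugatesOf d) w, F.t x = bar hy ∧
      y ∈ CN (conjugatesOf d) a c := by
    intro x
    by_cases hx : dot x x = 1
    · obtain ⟨hm, hma, hmc⟩ := F.mem x hx
      obtain ⟨y, hy, e⟩ := exists_bar hm
      rw [e] at hma hmc
      rw [loc_commute h hwD] at hma hmc
      exact ⟨y, fun _ => ⟨hy, e, hy.1, hma, hmc⟩⟩
    · exact ⟨1, fun e => absurd e hx⟩
  choose t ht using get
  have hnb : ∀ x, dot x x = 1 → t x ∈ nbrs (conjugatesOf d) w := fun x hx => (ht x hx).1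
  have hbar : ∀ x (hx : dot x x = 1), F.t x = bar (hnb x hx) := fun x hx => (ht x hx).2.1
  have hCN : ∀ x, dot x x = 1 → t x ∈ CN (conjugatesOf d) a c := fun x hx => (ht x hx).2.2
  have hcm : ∀ x y, dot x x = 1 → dot y y = 1 →
      (Commute (F.t x) (F.t y) ↔ Commute (t x) (t y)) := fun x y hx hy => by
    rw [hbar x hx, hbar y hy, loc_commute h hwD]
  have hnon : ∀ x y, dot x x = 1 → dot y y = 1 → dot x y ≠ 0 → t x ≠ t y →
      ¬ Commute (t x) (t y) := fun x y hx hy e hne => by
    rw [← hcm x y hx hy]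
    refine F.noncomm x y hx hy e fun e' => hne ?_
    rw [hbar x hx, hbar y hy] at e'
    exact loc_bar_inj h hwD _ _ e'
  have horth : ∀ x y, dot x x = 1 → dot y y = 1 → dot x y = 0 → Commute (t x) (t y) :=
    fun x y hx hy e => (hcm x y hx hy).1 (F.orth x y hx hy e)
  have hsurj : ∀ y ∈ CN (conjugatesOf d) a c, y ∈ nbrs (conjugatesOf d) w →
      ∃ x, dot x x = 1 ∧ t x = y := fun y hy hy' => by
    obtain ⟨x, hx, e⟩ := F.surj (bar hy') ⟨bar_mem hy', (loc_commute h hwD na hy').2 hy.2.1,
      (loc_commute h hwD nc hy').2 hy.2.2⟩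
    exact ⟨x, hx, loc_bar_inj h hwD _ _ ((hbar x hx).symm.trans e)⟩
  refine ⟨⟨t, fun x hx => ⟨hCN x hx, hnb x hx⟩, hsurj, horth, hnon,
    fun x y hx hy e h1 h2 => fun e' => F.inj x y hx hy e h1 h2 ((hcm x y hx hy).2 e'),
    fun x hx => ?_⟩⟩
  by_contra hne
  have hx' : dot (-x) (-x) = 1 := by rw [dot_neg_left, dot_symm, dot_neg_left, neg_neg, hx]
  have hpq : ¬ Commute (t x) (t (-x)) := hnon x (-x) hx hx'
    (by rw [dot_symm, dot_neg_left, hx]; decide) fun e => hne e.symm
  obtain ⟨mr, -⟩ := loc_third h hwD (hnb x hx) (hnb (-x) hx')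
  have qx := d_sq h (hnb x hx).1
  have rCN : t x * t (-x) * t x ∈ CN (conjugatesOf d) a c :=
    ⟨mr.1, ((hCN x hx).2.1.mul_right (hCN _ hx').2.1).mul_right (hCN x hx).2.1,
      ((hCN x hx).2.2.mul_right (hCN _ hx').2.2).mul_right (hCN x hx).2.2⟩
  obtain ⟨y, hy, ey⟩ := hsurj _ rCN mr
  have nr : ¬ Commute (t x) (t y) := fun e => hpq (by
    rw [ey] at e
    have e2 := (sflip_iff qx (t x) (t x * t (-x) * t x)).2 e
    rwa [sflip_fix qx (Commute.refl _), sflip_flip qx] at e2)
  have key : ∀ z : V, dot z z = 1 → dot x z = 0 → dot y z = 0 := by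
    intro z hz hxz
    have c1 := horth x z hx hz hxz
    have c2 := horth (-x) z hx' hz (by rw [dot_neg_left, hxz, neg_zero])
    have c3 : Commute (t y) (t z) := by
      rw [ey]; exact (c1.mul_left c2).mul_left c1
    by_contra e
    exact nr (by rw [show t y = t z from by_contra fun hne' => hnon y z hy hz e hne' c3]; exact c1)
  rcases perp_line hx hy key with e | e
  · exact nr (e ▸ Commute.refl _)
  · rw [e] at ey
    have e2 : t x * t (-x) * t x = t (-x) := ey.symm
    refine hpq ?_
    show t x * t (-x) = t (-x) * t x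
    calc t x * t (-x) = t x * t (-x) * (t x * t x) := by rw [qx, mul_one]
      _ = (t x * t (-x) * t x) * t x := by group
      _ = t (-x) * t x := by rw [e2]

omit h in
theorem lead_card : (Finset.univ.filter fun x : V => dot x x = 1 ∧
    ∀ i : Fin 6, (∀ j < i, x j = 0) → x i ≠ 0 → x i = 1).card = 126 := by
  decide +kernel

omit h in
theorem lead_or : ∀ x : V, (∀ i : Fin 6, (∀ j < i, x j = 0) → x i ≠ 0 → x i = 1) ∨
    ∀ i : Fin 6, (∀ j < i, -x j = 0) → -x i ≠ 0 → -x i = 1 := by
  decide +kernel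

/-- At most 126 common neighbours next to one of them. -/
theorem card_le_126 {a c w : G} (ha : a ∈ conjugatesOf d) (hc : c ∈ conjugatesOf d)
    (hac : ¬ Commute a c) (hw : w ∈ CN (conjugatesOf d) a c) :
    (CN (conjugatesOf d) a c ∩ nbrs (conjugatesOf d) w).ncard ≤ 126 := by
  obtain ⟨F⟩ := exists_lframe h ha hc hac hw
  rw [← lead_card, ← Set.ncard_coe_finset]
  refine le_trans (Set.ncard_le_ncard ?_ (Set.toFinite _)) (Set.ncard_image_le (f := F.t) (Set.toFinite _))
  rintro y ⟨hy, hy'⟩
  obtain ⟨x, hx, rfl⟩ := F.surj y hy hy'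
  rcases lead_or x with e | e
  · exact ⟨x, by simpa [hx] using e, rfl⟩
  · refine ⟨-x, ?_, F.neg x hx⟩
    simp only [Finset.coe_filter, Finset.mem_univ, true_and, Set.mem_ofPred_eq]
    exact ⟨by rw [dot_neg_left, dot_symm, dot_neg_left, neg_neg, hx], fun i h1 h2 => e i h1 h2⟩

end CfsgLib.InvChar.Fi23Inv
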