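import Cfsg.Agent.Lib.PLocal.M22JCount

/-!
An involution `d` whose centraliser is the double cover of a group of type M(22): the conjugates of
`d` in the centraliser are `d` and one lift of each transposition.
-/

set_option autoImplicit false
set_option linter.unusedSectionVars false

namespace CfsgLib.InvChar.Fi23Inv

open CfsgLib.Trans3 CfsgLib.Trans3.Fi CfsgLib.PLocal.M22J CfsgLib.PLocal.U6J

variable {G : Type*} [Group G] [Finite G] {d : G} {X : Type*} [Group X] [Finite X]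
variable {π : ↥(Subgroup.centralizer ({d} : Set G)) →* X}
variable {z : ↥(Subgroup.centralizer ({d} : Set G))} {D : Set X}
variable (hzd : (z : G) = d) (hd : orderOf d = 2) (hC : DCov π z)
  (hE : Cfsg.IsThreeTranspositionClass D) (hP : Cfsg.IsPrimitiveUnderConj D)
  (hw : ∃ a ∈ D, ∃ b ∈ D, a ≠ b ∧ Commute a b)
  (h : Cfsg.IsOfTypeM22 X D)
  (hq : Cfsg.IsQuasisimple ↥(Subgroup.centralizer ({d} : Set G)))
  (hnwc : ∃ g : G, g * d * g⁻¹ ∈ Subgroup.centralizer ({d} : Set G) ∧ g * d * g⁻¹ ≠ d)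
include hzd hd hC hE hP hw h hq hnwc

/-- The conjugates of `d` in its centraliser. -/
theorem fusion : (∀ u : ↥(Subgroup.centralizer ({d} : Set G)), IsConj d (u : G) → u ≠ z → π u ∈ D) ∧
    ∀ t ∈ D, ∃! u : ↥(Subgroup.centralizer ({d} : Set G)), π u = t ∧ IsConj d (u : G) := by
  classical
  have hD := class_isGroup hE
  have hcl := m22j_hcl hC hD hP h
  have hsq : ∀ u, π u ∈ D → u * u = 1 := fun u hu => by
    obtain ⟨g, hg, hgd⟩ := id hnwc
    exact m22_dcov_sq hd hzd hC hD hP hw h hcl hg hgd hu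
  have hlifts := m22_dcov_main hd hq hzd hC hE h hnwc
  have hperf := Group.isPerfect_def.1 hq.1
  obtain ⟨Y, hY⟩ := exists_clique22 hD hP h
  haveI := Fintype.ofFinite ↥(Subgroup.centralizer ({d} : Set G))
  obtain ⟨Δ, eΔ⟩ : ∃ Δ : Finset ↥(Subgroup.centralizer ({d} : Set G)),
      ∀ u, u ∈ Δ ↔ π u ∈ Subgroup.closure (Y : Set X) ∧ IsConj d (u : G) :=
    ⟨Finset.univ.filter fun u => π u ∈ Subgroup.closure (Y : Set X) ∧ IsConj d (u : G), fun u => by simp⟩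
  obtain ⟨A, eA⟩ : ∃ A, A = ((Subgroup.closure (Y : Set X)).comap π).map
      (Subgroup.centralizer ({d} : Set G)).subtype := ⟨_, rfl⟩
  have h23 : Δ.card = 23 := by
    rw [← span22_count hzd hd hC hD hP h hsq hperf hnwc hlifts hY eA, ← Set.ncard_coe_finset,
      ← Set.ncard_image_of_injective _ (Subgroup.subtype_injective _)]
    congr 1
    ext x
    simp only [eA, Set.mem_image, Finset.mem_coe, eΔ, Subgroup.mem_map, Set.mem_ofPred_eq]
    exact ⟨fun ⟨u, ⟨hu, hx⟩, e⟩ => ⟨⟨u, hu, e⟩, e ▸ hx⟩,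
      fun ⟨⟨u, hu, e⟩, hx⟩ => ⟨u, ⟨hu, by rw [show (u : G) = x from e]; exact hx⟩, e⟩⟩
  obtain ⟨x₁, -, x₂, -, x₃, -, f1, f2, f3, hm⟩ :=
    delta_count hzd hd hC hD hP h hsq hperf hnwc hY eA eΔ
  obtain ⟨rfl, rfl, rfl⟩ : x₁ = 1 ∧ x₂ = 0 ∧ x₃ = 0 := by omega
  obtain ⟨hkind, -, -, -⟩ := m22j_kinds hD hP h hY
  have hDY : ∀ t ∈ D, ∃ g : X, g * t * g⁻¹ ∈ Y := fun t ht => by
    obtain ⟨y, hy⟩ := Finset.card_pos.1 (show 0 < Y.card by rw [hY.card]; norm_num)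
    obtain ⟨g, hg⟩ := hP.1 t ht y (hY.sub y hy)
    exact ⟨g, hg.symm ▸ hy⟩
  refine ⟨fun u hu hne => ?_, fun t ht => ?_⟩
  · have hu2 : π u * π u = 1 := by
      rw [← map_mul, show u * u = 1 from Subtype.ext ?_, map_one]
      obtain ⟨g, hg⟩ := isConj_iff.1 hu
      exact invol_mul_self (by rw [← hg, orderOf_conj, hd])
    obtain ⟨k, hk⟩ := m22j_invol_mem hD hP h hY hu2
    obtain ⟨c, rfl⟩ := hC.surj k
    rw [← map_inv, ← map_mul, ← map_mul] at hk
    have hmem : c * u * c⁻¹ ∈ Δ := (eΔ _).2 ⟨hk, hu.trans (isConj_iff.2 ⟨(c : G), rfl⟩)⟩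
    have h1 : π (c * u * c⁻¹) ≠ 1 := fun e => by
      rcases (hC.ker _).1 e with e' | e'
      · exact delta_one hzd hd hC hD hP h hsq hperf hnwc hY eA eΔ (e' ▸ hmem)
      · rw [mul_inv_eq_iff_eq_mul, ← (hC.central c).eq] at e'
        exact hne (mul_left_cancel e')
    rcases hkind _ hk h1 with k | k | k
    · have := hD.2.1 (π c)⁻¹ _ (hY.sub _ k)
      simpa [map_mul, map_inv, mul_assoc] using this
    · exact absurd hmem (f2.zero k)
    · exact absurd hmem (f3.zero k)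
  · obtain ⟨g, hg⟩ := hDY t ht
    obtain ⟨c, rfl⟩ := hC.surj g
    obtain ⟨v, hv, ev⟩ := f1.one_exists hC (Finset.mem_coe.2 hg)
    refine ⟨c⁻¹ * v * c, ⟨by simp [map_mul, map_inv, ev, mul_assoc],
      ((eΔ v).1 hv).2.trans (isConj_iff.2 ⟨(c : G)⁻¹, by simp⟩)⟩, fun w ⟨hw', hw''⟩ => ?_⟩
    have e : π (c * w * c⁻¹) = π c * t * (π c)⁻¹ := by rw [map_mul, map_mul, map_inv, hw']
    have hm' : c * w * c⁻¹ ∈ Δ := (eΔ _).2 ⟨e ▸ Subgroup.subset_closure (Finset.mem_coe.2 hg),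
      hw''.trans (isConj_iff.2 ⟨(c : G), rfl⟩)⟩
    have := f1.one_unique hC hm' hv (by rw [e]; exact Finset.mem_coe.2 hg) (e.trans ev.symm)
    rw [← this]
    group

end CfsgLib.InvChar.Fi23Inv
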