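import Cfsg.Agent.Lib.InvChar.Fi23Inv.Small

/-!
Two members at distance two and a neighbour of the first have a common neighbour.
-/

set_option autoImplicit false
set_option linter.unusedSectionVars false

namespace CfsgLib.InvChar.Fi23Inv

open CfsgLib.Trans3 CfsgLib.Trans3.Fi

variable {G : Type*} [Group G] [Finite G] {d : G} (h : Cen d)
include h

/-- Seven pairwise commuting members: three further ones complete a triple in a neighbourhood. -/
theorem seven {e a g n : G} (he : e ∈ conjugatesOf d) (na : a ∈ nbrs (conjugatesOf d) e) (ng : g ∈ nbrs (conjugatesOf d) e)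
    (nn : n ∈ nbrs (conjugatesOf d) e) (hag : a ≠ g) (han : a ≠ n) (hgn : g ≠ n) (cag : Commute a g)
    (can : Commute a n) (cgn : Commute g n) :
    ∃ t₁ t₂ t₃ : G, Fac (nbrs (conjugatesOf d) e) 3 (a * g * (n * e)) [t₁, t₂, t₃] ∧
      ∀ t ∈ [t₁, t₂, t₃], t ∈ nbrs (conjugatesOf d) e ∧ t ∉ [a, g, n] ∧ ∀ u ∈ [a, g, n], Commute t u := by
  have hg' := loc_group h he
  have h22 := loc_m22 h he
  have mg : bar ng ∈ nbrs (Db (conjugatesOf d) e) (bar na) := ⟨bar_mem ng,
    fun x => hag (loc_bar_inj h he ng na x).symm, (loc_commute h he na ng).2 cag⟩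
  have mn : bar nn ∈ nbrs (Db (conjugatesOf d) e) (bar na) := ⟨bar_mem nn,
    fun x => han (loc_bar_inj h he nn na x).symm, (loc_commute h he na nn).2 can⟩
  obtain ⟨T₁, T₂, T₃, hT, haT, -⟩ := m22_line hg' (loc_prim h he) h22 (bar_mem na) mg mn
    (fun x => hgn (loc_bar_inj h he ng nn x)) ((loc_commute h he ng nn).2 cgn)
  have hs : Fac (Db (conjugatesOf d) e) 3 (bar na * bar ng * bar nn) [bar na, bar ng, bar nn] := ⟨by
      simp [Ne.symm mg.2.1, Ne.symm mn.2.1,
        show bar ng ≠ bar nn from fun x => hgn (loc_bar_inj h he ng nn x)], rfl,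
    by
      intro q hq
      simp only [List.mem_cons, List.not_mem_nil, or_false] at hq
      rcases hq with rfl | rfl | rfl <;> exact bar_mem _, by
      simp [mg.2.2, mg.2.2.symm, mn.2.2, mn.2.2.symm, (loc_commute h he ng nn).2 cgn,
        ((loc_commute h he ng nn).2 cgn).symm], by simp [mul_assoc]⟩
  have hdis := fac_disj hg' (m22_noRel hg' h22).2.1 hs hT haT
  have hcross : ∀ t ∈ [T₁, T₂, T₃], ∀ u ∈ [bar na, bar ng, bar nn], Commute t u := by
    intro t htm u hu
    refine commute_of_prod hg' le_rfl hs (hT.2.2.1 t htm) ?_ u hu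
    rw [← hT.2.2.2.2]
    exact Commute.list_prod_right _ _ fun v hv => hT.2.2.2.1 t htm v hv
  obtain ⟨t₁, m₁, rfl⟩ := exists_bar (hT.2.2.1 T₁ (by simp))
  obtain ⟨t₂, m₂, rfl⟩ := exists_bar (hT.2.2.1 T₂ (by simp))
  obtain ⟨t₃, m₃, rfl⟩ := exists_bar (hT.2.2.1 T₃ (by simp))
  obtain ⟨L, eL⟩ : ∃ L : List {u // u ∈ nbrs (conjugatesOf d) e}, L = [⟨t₁, m₁⟩, ⟨t₂, m₂⟩, ⟨t₃, m₃⟩] := ⟨_, rfl⟩
  have hLv : L.map Subtype.val = [t₁, t₂, t₃] := by rw [eL]; rfl
  have hLb : L.map (fun u => bar u.2) = [bar m₁, bar m₂, bar m₃] := by rw [eL]; rfl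
  have get : ∀ t ∈ [t₁, t₂, t₃], ∃ ht : t ∈ nbrs (conjugatesOf d) e, bar ht ∈ [bar m₁, bar m₂, bar m₃] := by
    intro t ht
    rw [← hLv] at ht
    obtain ⟨u, hu, rfl⟩ := List.mem_map.1 ht
    exact ⟨u.2, hLb ▸ List.mem_map_of_mem hu⟩
  have hco : ∀ t ∈ [t₁, t₂, t₃], ∀ t' ∈ [t₁, t₂, t₃], Commute t t' := by
    intro t ht t' ht'
    obtain ⟨m, hm⟩ := get t ht
    obtain ⟨m', hm'⟩ := get t' ht'
    exact (loc_commute h he m m').1 (hT.2.2.2.1 _ hm _ hm')
  have hnd : [t₁, t₂, t₃].Nodup :=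
    hLv ▸ (List.Nodup.of_map _ (hLb ▸ hT.1)).map Subtype.val_injective
  have hprops : ∀ t ∈ [t₁, t₂, t₃], t ∈ nbrs (conjugatesOf d) e ∧ t ∉ [a, g, n] ∧
      ∀ u ∈ [a, g, n], Commute t u := by
    intro t ht
    obtain ⟨m, hm⟩ := get t ht
    refine ⟨m, fun hu => ?_, fun u hu => ?_⟩
    · simp only [List.mem_cons, List.not_mem_nil, or_false] at hu
      rcases hu with rfl | rfl | rfl
      exacts [hdis _ (by simp) hm, hdis _ (by simp) hm, hdis _ (by simp) hm]
    · simp only [List.mem_cons, List.not_mem_nil, or_false] at hu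
      rcases hu with rfl | rfl | rfl
      exacts [(loc_commute h he m na).1 (hcross _ hm _ (by simp)),
        (loc_commute h he m ng).1 (hcross _ hm _ (by simp)),
        (loc_commute h he m nn).1 (hcross _ hm _ (by simp))]
  have hsix : Fac (conjugatesOf d) 6 (a * g * n * (t₁ * t₂ * t₃)) [a, g, n, t₁, t₂, t₃] := by
    refine ⟨?_, rfl, ?_, ?_, by simp [mul_assoc]⟩
    · rw [show [a, g, n, t₁, t₂, t₃] = [a, g, n] ++ [t₁, t₂, t₃] from rfl, List.nodup_append']
      exact ⟨by simp [hag, han, hgn], hnd, fun u hu hu' => (hprops u hu').2.1 hu⟩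
    · intro u hu
      rw [show [a, g, n, t₁, t₂, t₃] = [a, g, n] ++ [t₁, t₂, t₃] from rfl] at hu
      rcases List.mem_append.1 hu with hu | hu
      · simp only [List.mem_cons, List.not_mem_nil, or_false] at hu
        rcases hu with rfl | rfl | rfl
        exacts [na.1, ng.1, nn.1]
      · exact (hprops u hu).1.1
    · intro u hu v hv
      rw [show [a, g, n, t₁, t₂, t₃] = [a, g, n] ++ [t₁, t₂, t₃] from rfl] at hu hv
      rcases List.mem_append.1 hu with hu | hu <;> rcases List.mem_append.1 hv with hv | hv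
      · simp only [List.mem_cons, List.not_mem_nil, or_false] at hu hv
        rcases hu with e1 | e1 | e1 <;> rcases hv with e2 | e2 | e2 <;> rw [e1, e2] <;>
          first | exact Commute.refl _ | exact cag | exact cag.symm | exact can | exact can.symm | exact cgn | exact cgn.symm
      · exact ((hprops v hv).2.2 u hu).symm
      · exact (hprops u hu).2.2 v hv
      · exact hco u hu v hv
  obtain ⟨z, ez⟩ : ∃ z : ↥(Hd (conjugatesOf d) e), z = ⟨a, Subgroup.subset_closure na⟩ *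
      ⟨g, Subgroup.subset_closure ng⟩ * ⟨n, Subgroup.subset_closure nn⟩ *
      (⟨t₁, Subgroup.subset_closure m₁⟩ * ⟨t₂, Subgroup.subset_closure m₂⟩ *
        ⟨t₃, Subgroup.subset_closure m₃⟩) := ⟨_, rfl⟩
  have hz : z ∈ Subgroup.center ↥(Hd (conjugatesOf d) e) := by
    rw [← QuotientGroup.eq_one_iff, ez]
    simp only [QuotientGroup.mk_mul]
    rw [show (_ : Qd (conjugatesOf d) e) * _ * _ = bar m₁ * bar m₂ * bar m₃ from rfl, fac_cons hT]
    exact fac_sq hg' hs
  have hzv : (z : G) = a * g * n * (t₁ * t₂ * t₃) := by rw [ez]; rfl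
  have hze : (z : G) = e := by
    refine (loc_center h he hz).resolve_left fun e1 => ?_
    have hA : a ∈ conjugatesOf d := na.1
    have e2 : [g, n, t₁, t₂, t₃].prod = a := by
      have e3 : a * (g * (n * (t₁ * (t₂ * t₃)))) = 1 := by
        rw [← e1, hzv]; group
      have e4 := eq_inv_of_mul_eq_one_right e3
      rw [inv_eq_of_mul_eq_one_right (d_sq h hA)] at e4
      simpa using e4
    obtain ⟨h6a, -, h6m, h6c, -⟩ := hsix
    obtain ⟨h6a1, h6a2⟩ := List.nodup_cons.1 h6a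
    refine (no_rel_five h hA h6a2 (fun x hx => ⟨h6m x (List.mem_cons_of_mem _ hx),
      fun e' => h6a1 (e' ▸ hx), h6c a List.mem_cons_self x (List.mem_cons_of_mem _ hx)⟩)
      (fun x hx y hy => h6c x (List.mem_cons_of_mem _ hx) y (List.mem_cons_of_mem _ hy))
      (by simp)).2 e2
  refine ⟨t₁, t₂, t₃, ⟨hnd, rfl, fun t ht => (hprops t ht).1, hco, ?_⟩, hprops⟩
  have hsq3 : a * g * n * (a * g * n) = 1 := by
    rw [← pow_two, (can.mul_left cgn).mul_pow, pow_two, pow_two, d_sq h nn.1, mul_one, ← pow_two,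
      cag.mul_pow, pow_two, pow_two, d_sq h na.1, d_sq h ng.1, one_mul]
  calc [t₁, t₂, t₃].prod = (a * g * n) * (a * g * n) * (t₁ * t₂ * t₃) := by
        rw [hsq3]; simp [mul_assoc]
    _ = (a * g * n) * (a * g * n * (t₁ * t₂ * t₃)) := by group
    _ = a * g * (n * e) := by rw [← hzv, hze]; group

/-- A commuting pair and a member at distance two from the first have a common neighbour. -/
theorem common_three {a b y e : G} (ha : a ∈ conjugatesOf d) (hb : b ∈ nbrs (conjugatesOf d) a)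
    (nea : e ∈ nbrs (conjugatesOf d) a) (hy : y ∈ conjugatesOf d) (ey : Commute e y)
    (hay : ¬ Commute a y) :
    ∃ x ∈ conjugatesOf d, Commute x a ∧ Commute x b ∧ Commute x y := by
  classical
  by_contra! hall
  have he : e ∈ conjugatesOf d := nea.1
  have ea : Commute e a := nea.2.2.symm
  have eb : ¬ Commute e b := fun x => hall e he ea x ey
  have hXg := loc_group h ha
  have hX22 := loc_m22 h ha
  obtain ⟨_, gm, ge, gb⟩ := Fi.exists_common hXg (loc_prim h ha) hX22 (bar_mem nea) (bar_mem hb)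
    fun x => eb ((loc_commute h ha nea hb).1 x)
  obtain ⟨g, hg, rfl⟩ := exists_bar gm
  rw [loc_commute h ha hg nea] at ge
  rw [loc_commute h ha hg hb] at gb
  have hgy : ¬ Commute g y := fun x => hall g hg.1 hg.2.2.symm gb x
  have ngb : b ≠ g := fun x => eb (x ▸ ge.symm)
  -- neighbours inside the set of common neighbours of `a`, `g`, `y`
  have third : ∀ {x : G}, x ∈ conjugatesOf d → Commute x a → Commute x g → Commute x y →
      ∃ w ∈ conjugatesOf d, w ≠ x ∧ Commute w x ∧ Commute w a ∧ Commute w g ∧ Commute w y := by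
    intro x hx xa xg xy
    have na : a ∈ nbrs (conjugatesOf d) x := ⟨ha, fun e => hay (e ▸ xy), xa⟩
    have ng : g ∈ nbrs (conjugatesOf d) x := ⟨hg.1, fun e => hgy (e ▸ xy), xg⟩
    have ny : y ∈ nbrs (conjugatesOf d) x := ⟨hy, fun e => hay (e ▸ xa.symm), xy⟩
    obtain ⟨_, qm, q1, q2, q3⟩ := exists_common_three (loc_group h hx) (loc_prim h hx)
      (loc_m22 h hx) (bar_mem na) (b := bar ng)
      ⟨bar_mem ng, fun e => hg.2.1 (loc_bar_inj h hx ng na e), (loc_commute h hx na ng).2 hg.2.2⟩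
      (bar_mem ny) fun e => hay ((loc_commute h hx na ny).1 e)
    obtain ⟨w, hw, rfl⟩ := exists_bar qm
    rw [loc_commute h hx] at q1 q2 q3
    exact ⟨w, hw.1, hw.2.1, hw.2.2.symm, q1, q2, q3⟩
  have other : ∀ {x z : G}, x ∈ conjugatesOf d → Commute x a → Commute x g → Commute x y → z ∈ conjugatesOf d → z ≠ x →
      Commute x z → Commute z a → Commute z g → Commute z y →
      ∃ w ∈ conjugatesOf d, w ≠ x ∧ Commute w x ∧ Commute w a ∧ Commute w g ∧ Commute w y ∧ ¬ Commute w z := by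
    intro x z hx xa xg xy hz hzx xz za zg zy
    have na : a ∈ nbrs (conjugatesOf d) x := ⟨ha, fun e => hay (e ▸ xy), xa⟩
    have ng : g ∈ nbrs (conjugatesOf d) x := ⟨hg.1, fun e => hgy (e ▸ xy), xg⟩
    have ny : y ∈ nbrs (conjugatesOf d) x := ⟨hy, fun e => hay (e ▸ xa.symm), xy⟩
    have nz : z ∈ nbrs (conjugatesOf d) x := ⟨hz, hzx, xz⟩
    obtain ⟨_, qm, q1, q2, q3, q4⟩ := m22_triple_partner (loc_group h hx) (loc_prim h hx)
      (loc_m22 h hx) (bar_mem na) (g := bar ng)
      ⟨bar_mem ng, fun e => hg.2.1 (loc_bar_inj h hx ng na e), (loc_commute h hx na ng).2 hg.2.2⟩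
      (bar_mem ny) (fun e => hay ((loc_commute h hx na ny).1 e))
      (fun e => hgy ((loc_commute h hx ng ny).1 e)) (bar_mem nz)
      ((loc_commute h hx nz na).2 za) ((loc_commute h hx nz ng).2 zg) ((loc_commute h hx nz ny).2 zy)
    obtain ⟨w, hw, rfl⟩ := exists_bar qm
    rw [loc_commute h hx] at q1 q2 q3 q4
    exact ⟨w, hw.1, hw.2.1, hw.2.2.symm, q1, q2, q3, q4⟩
  obtain ⟨u, hu, hue, cue, ua, ug, uy⟩ := third he ea ge.symm ey
  obtain ⟨n, hn, hne, cne, na', ng', ny', hnu⟩ := other he ea ge.symm ey hu hue cue.symm ua ug uy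
  obtain ⟨A, hA, hAu, cAu, Aa, Ag, Ay, hAe⟩ := other hu ua ug uy he (Ne.symm hue) cue ea ge.symm ey
  -- a member commuting with `e` and not with `u` or `A`
  obtain ⟨T, hT, cTe, Ta, Tg, Ty, hTu, hTA⟩ : ∃ T ∈ conjugatesOf d, Commute T e ∧ Commute T a ∧ Commute T g ∧
      Commute T y ∧ ¬ Commute T u ∧ ¬ Commute T A := by
    by_cases hnA : Commute n A
    swap
    · exact ⟨n, hn, cne, na', ng', ny', hnu, hnA⟩
    obtain ⟨t₁, t₂, t₃, ht, hprops⟩ := seven h he (a := a) (g := g) (n := n)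
      ⟨ha, fun x => hay (x ▸ ey), ea⟩ ⟨hg.1, fun x => hgy (x ▸ ey), ge.symm⟩ ⟨hn, hne, cne.symm⟩
      (Ne.symm hg.2.1) (fun x => hay (x ▸ ny')) (fun x => hgy (x ▸ ny'))
      hg.2.2 na'.symm ng'.symm
    obtain ⟨hS, hS'⟩ := nb_set h he
    obtain ⟨r, hr, hyr⟩ := pentad' hS hS' ⟨ha, fun x => hay (x ▸ ey), ea⟩
      ⟨hg.1, fun x => hgy (x ▸ ey), ge.symm⟩ ⟨hy, fun x => hay (x ▸ ea.symm), ey⟩ ht hg.2.2
      (fun x => hay x.symm) (fun x => hgy x.symm) (ny'.symm.mul_right ey.symm)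
    obtain ⟨hre, hrn, hrc⟩ := hprops r hr
    have e' := fac_erase ht hr
    have hfac : ∀ (S : Set G) (s : G), s ∈ S → (∀ t ∈ [t₁, t₂, t₃], t ∈ S) → s ∉ [t₁, t₂, t₃] →
        (∀ t ∈ [t₁, t₂, t₃], Commute t s) →
        Fac S 3 (s * (r⁻¹ * (a * g * (n * e)))) (s :: [t₁, t₂, t₃].erase r) := by
      intro S s hs hts hst hsc
      refine ⟨List.nodup_cons.2 ⟨fun hm => hst (List.mem_of_mem_erase hm), e'.1⟩,
        by rw [List.length_cons, e'.2.1], ?_, ?_, by rw [List.prod_cons, e'.2.2.2.2]⟩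
      · intro v hv
        rcases List.mem_cons.1 hv with rfl | hv
        exacts [hs, hts v (List.mem_of_mem_erase hv)]
      · intro v hv v' hv'
        rcases List.mem_cons.1 hv with e1 | hv
        · rw [e1]
          rcases List.mem_cons.1 hv' with e2 | hv'
          · rw [e2]
          · exact (hsc v' (List.mem_of_mem_erase hv')).symm
        · rcases List.mem_cons.1 hv' with e2 | hv'
          · rw [e2]; exact hsc v (List.mem_of_mem_erase hv)
          · exact e'.2.2.2.1 v hv v' hv'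
    have her : Commute e r := hre.2.2
    have hrn' : Commute n r := (hrc n (by simp)).symm
    refine ⟨r, hre.1, her.symm, hrc a (by simp), hrc g (by simp), hyr.symm, fun hru => ?_,
      fun hrA => ?_⟩
    · -- `u` would commute with `n`
      have hF := hfac (nbrs (conjugatesOf d) e) n ⟨hn, hne, cne.symm⟩ (fun t ht' => (hprops t ht').1)
        (fun hm => (hprops n hm).2.1 (by simp)) fun t ht' => (hprops t ht').2.2 n (by simp)
      refine hnu (commute_of_prod' hS le_rfl hF ⟨hu, hue, cue.symm⟩ ?_ n List.mem_cons_self).symm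
      rw [inv_eq_of_mul_eq_one_right (d_sq h hre.1), show n * (r * (a * g * (n * e))) = n * (r * a * g) * n * e by group,
        sflip_fix (d_sq h hn) ((hrn'.mul_right na').mul_right ng')]
      exact ((hru.symm.mul_right ua).mul_right ug).mul_right cue
    · -- `A` would commute with `e`
      have hF := hfac (nbrs (conjugatesOf d) a) e nea
        (fun t ht' => ⟨(hprops t ht').1.1, fun e' => (hprops t ht').2.1 (e' ▸ by simp),
          ((hprops t ht').2.2 a (by simp)).symm⟩)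
        (fun hm => (hprops e hm).1.2.1 rfl) fun t ht' => (hprops t ht').1.2.2.symm
      refine hAe (commute_of_prod' (nb_set h ha).1 le_rfl hF
        ⟨hA, fun e' => hay (e' ▸ Ay), Aa.symm⟩ ?_ e List.mem_cons_self)
      rw [inv_eq_of_mul_eq_one_right (d_sq h hre.1), show e * (r * (a * g * (n * e))) = e * (r * a * g * n) * e by group,
        sflip_fix (d_sq h he) (((her.mul_right ea).mul_right ge.symm).mul_right cne.symm)]
      exact ((hrA.symm.mul_right Aa).mul_right Ag).mul_right hnA.symm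
  -- a chain `e`, `A`, `T`, `u` gives four members of a star
  obtain ⟨B, eB⟩ : ∃ B, B = A * e * A := ⟨_, rfl⟩
  obtain ⟨C, eC⟩ : ∃ C, C = T * B * T := ⟨_, rfl⟩
  obtain ⟨E, eE⟩ : ∃ E, E = u * C * u := ⟨_, rfl⟩
  have flip : ∀ {s : G}, s ∈ conjugatesOf d → ∀ x y : G,
      (Commute (s * x * s) (s * y * s) ↔ Commute x y) := fun hs => sflip_iff (d_sq h hs)
  have fx : ∀ {s x : G}, s ∈ conjugatesOf d → Commute s x → s * x * s = x :=
    fun hs => sflip_fix (d_sq h hs)
  have ff : ∀ {s x : G}, s ∈ conjugatesOf d → s * (s * x * s) * s = x :=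
    fun hs => sflip_flip (d_sq h hs)
  obtain ⟨P, eP⟩ : ∃ P : Set G,
      P = {x | x ∈ conjugatesOf d ∧ Commute x a ∧ Commute x g ∧ Commute x y} := ⟨_, rfl⟩
  have memP : ∀ x, x ∈ P ↔ x ∈ conjugatesOf d ∧ Commute x a ∧ Commute x g ∧ Commute x y := by
    intro x; rw [eP]; rfl
  have P3 : ∀ {v w : G}, v ∈ P → w ∈ P → v * w * v ∈ P := by
    intro v w hv hw
    obtain ⟨v1, v2, v3, v4⟩ := (memP v).1 hv
    obtain ⟨w1, w2, w3, w4⟩ := (memP w).1 hw
    exact (memP _).2 ⟨d_conj h v1 w1, (v2.mul_left w2).mul_left v2,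
      (v3.mul_left w3).mul_left v3, (v4.mul_left w4).mul_left v4⟩
  have na0 : ∀ x ∈ P, x ∈ nbrs (conjugatesOf d) a := fun x hx => by
    obtain ⟨h1, h2, -, h4⟩ := (memP x).1 hx
    exact ⟨h1, fun e' => hay (e' ▸ h4), h2.symm⟩
  have br : ∀ {v w : G}, v ∈ P → w ∈ P → ¬ Commute v w → v * w * v = w * v * w :=
    fun hv hw => loc_braid h ha (na0 _ hv) (na0 _ hw)
  have pe : e ∈ P := (memP e).2 ⟨he, ea, ge.symm, ey⟩
  have pA : A ∈ P := (memP A).2 ⟨hA, Aa, Ag, Ay⟩
  have pT : T ∈ P := (memP T).2 ⟨hT, Ta, Tg, Ty⟩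
  have pu : u ∈ P := (memP u).2 ⟨hu, ua, ug, uy⟩
  have pB : B ∈ P := eB ▸ P3 pA pe
  have pC : C ∈ P := eC ▸ P3 pT pB
  have pE : E ∈ P := eE ▸ P3 pu pC
  have neB : ¬ Commute e B := fun x => hAe (by
    rw [eB, br pA pe hAe, ← flip he, ff he, fx he (Commute.refl e)] at x
    exact x.symm)
  have hBu : u * B * u = B := fx hu (eB ▸ ((cAu.symm.mul_right cue).mul_right cAu.symm))
  have nBT : ¬ Commute B T := fun x => hAe (by
    rw [eB, ← flip hA, ff hA, br pA pT fun y' => hTA y'.symm, ← flip hT, ff hT,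
      fx hT cTe] at x
    exact x.symm)
  have hBD : B ∈ conjugatesOf d := eB ▸ d_conj h hA he
  have nBC : ¬ Commute B C := fun x => nBT (by
    rw [eC, br pT pB fun y' => nBT y'.symm, ← flip hBD, ff hBD,
      fx hBD (Commute.refl B)] at x
    exact x)
  have neC : ¬ Commute e C := fun x => neB (by
    rw [eC, ← fx hT cTe, flip hT] at x; exact x)
  have nBE : ¬ Commute B E := fun x => nBC (by
    rw [eE, ← hBu, flip hu] at x; exact x)
  have neE : ¬ Commute e E := fun x => neC (by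
    rw [eE, ← fx hu cue, flip hu] at x; exact x)
  have nCu : ¬ Commute C u := fun x => nBT (by
    rw [eC, ← flip hT, ff hT, br pT pu hTu, ← flip hu, hBu, ff hu] at x
    exact x)
  have hCD : C ∈ conjugatesOf d := eC ▸ d_conj h hT hBD
  have nCE : ¬ Commute C E := fun x => nCu (by
    rw [eE, br pu pC fun y' => nCu y'.symm, ← flip hCD, ff hCD,
      fx hCD (Commute.refl C)] at x
    exact x)
  have hABe : e * B * e = A := by
    rw [eB, br pA pe hAe]
    exact ff he
  have hTAT : e * C * e = T * A * T := by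
    rw [eC, show e * (T * B * T) * e = (e * T) * B * (T * e) by group, cTe.symm.eq,
      show T * e * B * (T * e) = T * e * B * (e * T) by rw [cTe.eq], show T * e * B * (e * T) =
        T * (e * B * e) * T by group, hABe]
  have hTATB : Commute (T * A * T) B := by
    rw [← br pA pT fun y' => hTA y'.symm, eB, flip hA]; exact cTe
  have hAC : Commute A C := by
    rw [eC, ← flip hT, ff hT]; exact hTATB
  -- transfer to the neighbourhood group of `g` in that of `a`
  have nx : ∀ x (hx : x ∈ P), bar (na0 x hx) ∈ nbrs (Db (conjugatesOf d) a) (bar hg) := fun x hx => by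
    obtain ⟨-, -, h3, h4⟩ := (memP x).1 hx
    exact ⟨bar_mem _, fun e' => hgy (loc_bar_inj h ha (na0 x hx) hg e' ▸ h4),
      (loc_commute h ha hg (na0 x hx)).2 h3.symm⟩
  have nb : bar hb ∈ nbrs (Db (conjugatesOf d) a) (bar hg) :=
    ⟨bar_mem _, fun e' => ngb (loc_bar_inj h ha hb hg e'), (loc_commute h ha hg hb).2 gb⟩
  have hPX := pre_of_group hXg
  have cq : ∀ {v w : G} (hv : v ∈ P) (hw : w ∈ P),
      Commute (bar (nx v hv)) (bar (nx w hw)) ↔ Commute v w := fun hv hw =>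
    (commute_bar hPX (nx _ hv) (nx _ hw)).trans (loc_commute h ha (na0 _ hv) (na0 _ hw))
  have c3 : ∀ {v w : G} (hv : v ∈ P) (hw : w ∈ P), bar (nx v hv) * bar (nx w hw) * bar (nx v hv) =
      bar (nx (v * w * v) (P3 hv hw)) := by
    intro v w hv hw
    show (QuotientGroup.mk _ : Qd (Db (conjugatesOf d) a) (bar hg)) * QuotientGroup.mk _ * QuotientGroup.mk _ =
      QuotientGroup.mk _
    rw [← QuotientGroup.mk_mul, ← QuotientGroup.mk_mul]
    exact congrArg QuotientGroup.mk (Subtype.ext rfl)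
  have bad : ∀ {v : G} (hv : v ∈ P), ¬ Commute (bar (nx v hv)) (bar nb) := by
    intro v hv x
    obtain ⟨h1, h2, -, h4⟩ := (memP v).1 hv
    exact hall v h1 h2 ((loc_commute h ha (na0 v hv) hb).1
      ((commute_bar hPX (nx v hv) nb).1 x)) h4
  have bad3 : ∀ {v w : G} (hv : v ∈ P) (hw : w ∈ P),
      ¬ Commute (bar (nx v hv) * bar (nx w hw) * bar (nx v hv)) (bar nb) := fun hv hw x => bad (P3 hv hw) (by rwa [c3 hv hw] at x)
  refine u6_no_bad (m22_isU6 hXg hX22 (bar_mem hg)) ((nice_m22 hXg hX22).group_Db (bar_mem hg))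
    (bar_mem nb) (a := 1) (c := 1) (A := bar (nx e pe)) (B := bar (nx B pB)) (C := bar (nx C pC))
    (E := bar (nx E pE)) ⟨?_, fun x => neB ((cq pe pB).1 x), fun x => neC ((cq pe pC).1 x),
      fun x => neE ((cq pe pE).1 x), fun x => nBC ((cq pB pC).1 x), fun x => nBE ((cq pB pE).1 x),
      fun x => nCE ((cq pC pE).1 x), ?_, ?_, ?_⟩
    (bad pe) (bad pB) (bad pC) (bad pE) (bad3 pe pB) (bad3 pe pC) (bad3 pe pE) (bad3 pB pC)
    (bad3 pB pE) (bad3 pC pE)
  · intro x hx
    simp only [List.mem_cons, List.not_mem_nil, or_false] at hx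
    refine ⟨?_, Commute.one_left x, Commute.one_left x⟩
    rcases hx with rfl | rfl | rfl | rfl <;> exact bar_mem _
  · rw [c3 pe pB, cq (P3 pe pB) pC, hABe]; exact hAC
  · rw [c3 pe pB, cq (P3 pe pB) pE, hABe, eE, ← fx hu cAu.symm, flip hu]; exact hAC
  · rw [c3 pe pC, cq (P3 pe pC) pE, hTAT, eE]
    rw [← flip hu, ff hu, eC, ← flip hT,
      show T * (u * (T * A * T) * u) * T = (T * u * T) * A * (T * u * T) by group,
      br pT pu hTu, show u * T * u * A * (u * T * u) = u * T * (u * A * u) * T * u by group,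
      fx hu cAu.symm, ff hT, ← flip hu, show u * (u * T * A * T * u) * u =
        u * (u * (T * A * T) * u) * u by group, ff hu, hBu]
    exact hTATB

/-- Two non-commuting neighbours of a member: the neighbours they share meet the neighbourhood of
every further neighbour of one of them. -/
theorem link {a b c e : G} (hab : a ∈ nbrs (conjugatesOf d) b)
    (hcb : c ∈ nbrs (conjugatesOf d) b) (hac : ¬ Commute a c) (he : e ∈ nbrs (conjugatesOf d) c)
    (hb : b ∈ conjugatesOf d) :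
    ∃ y, y ∈ nbrs (conjugatesOf d) a ∧ y ∈ nbrs (conjugatesOf d) c ∧ Commute y e := by
  obtain ⟨x, hx, xc, xe, xa⟩ := common_three h hcb.1 he ⟨hb, hcb.2.1.symm, hcb.2.2.symm⟩ hab.1
    hab.2.2 fun x => hac x.symm
  exact ⟨x, ⟨hx, fun e' => hac (e' ▸ xc), xa.symm⟩, ⟨hx, fun e' => hac (e' ▸ xa).symm, xc.symm⟩, xe⟩

end CfsgLib.InvChar.Fi23Inv
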