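import Cfsg.Agent.Lib.InvChar.Fi23Inv.Fusion
import Cfsg.Agent.Lib.InvChar.Fi22Inv.Comp
import Cfsg.Agent.Lib.Trans3.Fi.M23Base

/-!
An involution with centraliser a double cover of a group of type M(22), commuting with another
conjugate: the neighbourhood of each conjugate in the commuting graph of the class is the class of
transpositions of a group of type M(22).
-/

set_option autoImplicit false
set_option linter.unusedSectionVars false

namespace CfsgLib.InvChar.Fi23Inv

open CfsgLib.Trans3 CfsgLib.Trans3.Fi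
open CfsgLib.InvChar.Fi22Inv (map_center_equiv conjugates_eq conj_mem nbrs_centralizer nbrs_conj')
open scoped commutatorElement

/-- A class of type M(22) in a simple group is primitive and has a commuting pair. -/
theorem m22_prim_of_class {X : Type*} [Group X] [Finite X] [IsSimpleGroup X] {E : Set X}
    (hE : Cfsg.IsThreeTranspositionClass E) (h : Cfsg.IsOfTypeM22 X E) :
    Cfsg.IsPrimitiveUnderConj E ∧ ∃ a ∈ E, ∃ b ∈ E, a ≠ b ∧ Commute a b := by
  obtain ⟨-, e₀, he₀, c₀, hc₀, hnc₀, -⟩ := h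
  have hcom : _root_.commutator X = ⊤ := by
    refine ((inferInstance : (_root_.commutator X).Normal).eq_bot_or_eq_top).resolve_left
      fun e => hnc₀ ?_
    have hm : ⁅e₀, c₀⁆ ∈ _root_.commutator X := by
      rw [_root_.commutator_def]
      exact Subgroup.commutator_mem_commutator (Subgroup.mem_top _) (Subgroup.mem_top _)
    rw [e, Subgroup.mem_bot, commutatorElement_eq_one_iff_mul_comm] at hm
    exact hm
  haveI := ((MulEquiv.subgroupCongr hcom).trans Subgroup.topEquiv).isSimpleGroup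
  exact CfsgLib.Trans3.primitive_of_simple_commutator hE
    ⟨⟨e₀, hcom ▸ Subgroup.mem_top _⟩, ⟨c₀, hcom ▸ Subgroup.mem_top _⟩,
      fun e => hnc₀ (congrArg Subtype.val e)⟩

theorem class_congr {A B : Type*} [Group A] [Group B] (e : A ≃* B) {S : Set A} {T : Set B}
    (hT : e '' S = T) (h : Cfsg.IsThreeTranspositionClass S) :
    Cfsg.IsThreeTranspositionClass T := by
  subst hT
  obtain ⟨⟨h1, h2⟩, ⟨x, hx, hS⟩, hgen⟩ := h
  refine ⟨⟨?_, ?_⟩, ⟨e x, ⟨x, hx, rfl⟩, ?_⟩, ?_⟩
  · rintro _ ⟨u, hu, rfl⟩; rw [MulEquiv.orderOf_eq]; exact h1 u hu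
  · rintro _ ⟨u, hu, rfl⟩ _ ⟨v, hv, rfl⟩
    rcases h2 u hu v hv with e' | e' <;> [left; right] <;>
      rw [← map_mul, ← map_pow, e', map_one]
  · ext y
    constructor
    · rintro ⟨u, hu, rfl⟩
      rw [hS] at hu
      exact MonoidHom.map_isConj e.toMonoidHom (show IsConj x u from hu)
    · intro hy
      refine ⟨e.symm y, ?_, e.apply_symm_apply y⟩
      rw [hS]
      have := MonoidHom.map_isConj e.symm.toMonoidHom (show IsConj (e x) y from hy)
      show IsConj x (e.symm y)
      simpa using this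
  · refine Subgroup.map_injective (f := e.symm.toMonoidHom) e.symm.injective ?_
    rw [MonoidHom.map_closure, Subgroup.map_top_of_surjective e.symm.toMonoidHom e.symm.surjective,
      Set.image_image, ← hgen]
    simp

variable {G : Type*} [Group G] [Finite G]

/-- The hypotheses on the involution. -/
structure Cen (x : G) : Prop where
  ord : orderOf x = 2
  qs : Cfsg.IsQuasisimple ↥(Subgroup.centralizer ({x} : Set G))
  cls : ∃ E : Set (↥(Subgroup.centralizer ({x} : Set G)) ⧸
      Subgroup.center ↥(Subgroup.centralizer ({x} : Set G))),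
    Cfsg.IsThreeTranspositionClass E ∧ Cfsg.IsOfTypeM22 _ E
  cen : ∀ u ∈ Subgroup.center ↥(Subgroup.centralizer ({x} : Set G)), (u : G) = 1 ∨ (u : G) = x
  nwc : ∃ g : G, g * x * g⁻¹ ∈ Subgroup.centralizer ({x} : Set G) ∧ g * x * g⁻¹ ≠ x

theorem Cen.conj {x : G} (h : Cen x) (g : G) : Cen (g * x * g⁻¹) := by
  have hmap : (Subgroup.centralizer ({x} : Set G)).map (MulAut.conj g).toMonoidHom =
      Subgroup.centralizer ({g * x * g⁻¹} : Set G) := by
    ext y
    rw [Subgroup.mem_map_equiv, Subgroup.mem_centralizer_singleton_iff,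
      Subgroup.mem_centralizer_singleton_iff, MulAut.conj_symm_apply]
    constructor <;> intro e
    · calc y * (g * x * g⁻¹) = g * (g⁻¹ * y * g * x) * g⁻¹ := by group
        _ = g * (x * (g⁻¹ * y * g)) * g⁻¹ := by rw [e]
        _ = g * x * g⁻¹ * y := by group
    · calc g⁻¹ * y * g * x = g⁻¹ * (y * (g * x * g⁻¹)) * g := by group
        _ = g⁻¹ * (g * x * g⁻¹ * y) * g := by rw [e]
        _ = x * (g⁻¹ * y * g) := by group
  let E : ↥(Subgroup.centralizer ({x} : Set G)) ≃* ↥(Subgroup.centralizer ({g * x * g⁻¹} : Set G)) :=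
    ((MulAut.conj g).subgroupMap _).trans (MulEquiv.subgroupCongr hmap)
  have hE : ∀ u, ((E u : ↥(Subgroup.centralizer ({g * x * g⁻¹} : Set G))) : G) = g * (u : G) * g⁻¹ :=
    fun _ => rfl
  have hcen : (Subgroup.center ↥(Subgroup.centralizer ({x} : Set G))).map E.toMonoidHom =
      Subgroup.center ↥(Subgroup.centralizer ({g * x * g⁻¹} : Set G)) :=
    map_center_equiv E
  let q := QuotientGroup.congr _ _ E hcen
  refine ⟨by rw [orderOf_conj, h.ord], ⟨?_, ?_⟩, ?_, fun u hu => ?_, ?_⟩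
  · rw [Group.isPerfect_def, eq_top_iff,
      ← Subgroup.map_top_of_surjective E.toMonoidHom E.surjective, ← Group.isPerfect_def.1 h.qs.1,
      _root_.commutator_def, _root_.commutator_def, Subgroup.map_commutator,
      Subgroup.map_top_of_surjective E.toMonoidHom E.surjective]
  · haveI := h.qs.2
    exact q.symm.isSimpleGroup
  · obtain ⟨S, hS, hM⟩ := h.cls
    exact ⟨q '' S, class_congr q rfl hS, m22_congr q rfl hM⟩
  · rw [← hcen] at hu
    obtain ⟨v, hv, rfl⟩ := hu
    show ((E v : ↥(Subgroup.centralizer ({g * x * g⁻¹} : Set G))) : G) = 1 ∨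
      ((E v : ↥(Subgroup.centralizer ({g * x * g⁻¹} : Set G))) : G) = g * x * g⁻¹
    rw [hE]
    rcases h.cen v hv with e | e <;> rw [e]
    exacts [Or.inl (by group), Or.inr rfl]
  · obtain ⟨k, hk, hne⟩ := h.nwc
    have hk' := hmap ▸ Subgroup.mem_map_of_mem (MulAut.conj g).toMonoidHom hk
    refine ⟨g * k * g⁻¹, ?_, fun e => hne ?_⟩
    · have : g * k * g⁻¹ * (g * x * g⁻¹) * (g * k * g⁻¹)⁻¹ = g * (k * x * k⁻¹) * g⁻¹ := by group
      rw [this]; simpa using hk'
    · have : g * (k * x * k⁻¹) * g⁻¹ = g * x * g⁻¹ := by rw [← e]; group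
      exact mul_left_cancel (mul_right_cancel this)

variable {d : G}

theorem cen_of_mem (h : Cen d) {a : G} (ha : a ∈ conjugatesOf d) : Cen a := by
  obtain ⟨g, rfl⟩ := isConj_iff.1 (show IsConj d a from ha)
  exact h.conj g

/-- The neighbourhood of `d` as a set of transpositions. -/
theorem local_raw (h : Cen d) : ∃ (D : Set (↥(Subgroup.centralizer ({d} : Set G)) ⧸
      Subgroup.center ↥(Subgroup.centralizer ({d} : Set G)))),
    Cfsg.IsThreeTranspositionClass D ∧ Cfsg.IsOfTypeM22 _ D ∧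
    (∀ u : ↥(Subgroup.centralizer ({d} : Set G)), (u : G) ∈ nbrs (conjugatesOf d) d →
      (QuotientGroup.mk u : _ ⧸ Subgroup.center ↥(Subgroup.centralizer ({d} : Set G))) ∈ D) ∧
    ∀ t ∈ D, ∃! u : ↥(Subgroup.centralizer ({d} : Set G)),
      QuotientGroup.mk u = t ∧ (u : G) ∈ nbrs (conjugatesOf d) d := by
  have hd := h.ord
  let z : ↥(Subgroup.centralizer ({d} : Set G)) :=
    ⟨d, Subgroup.mem_centralizer_singleton_iff.2 rfl⟩
  have hz : z ∈ Subgroup.center ↥(Subgroup.centralizer ({d} : Set G)) :=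
    Subgroup.mem_center_iff.2 fun u => Subtype.ext (Subgroup.mem_centralizer_singleton_iff.1 u.2)
  have hC : DCov (QuotientGroup.mk' (Subgroup.center ↥(Subgroup.centralizer ({d} : Set G)))) z :=
    { surj := QuotientGroup.mk'_surjective _
      ne := fun e => invol_ne_one hd (congrArg Subtype.val e)
      central := fun u => Subgroup.mem_center_iff.1 hz u
      ker := fun u => by
        rw [QuotientGroup.mk'_apply, QuotientGroup.eq_one_iff]
        refine ⟨fun hu => (h.cen u hu).imp Subtype.ext Subtype.ext, ?_⟩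
        rintro (rfl | rfl)
        exacts [one_mem _, hz] }
  obtain ⟨D, hD, hM⟩ := h.cls
  haveI := h.qs.2
  obtain ⟨hP, hw⟩ := m22_prim_of_class hD hM
  obtain ⟨hin, hlift⟩ := fusion rfl hd hC hD hP hw hM h.qs h.nwc
  refine ⟨D, hD, hM, fun u hu => hin u hu.1 fun e => hu.2.1 (congrArg Subtype.val e), fun t ht => ?_⟩
  obtain ⟨u, ⟨hu, hc⟩, huniq⟩ := hlift t ht
  refine ⟨u, ⟨hu, hc, fun e => ?_, (Subgroup.mem_centralizer_singleton_iff.1 u.2).symm⟩,
    fun v hv => huniq v ⟨hv.1, hv.2.1⟩⟩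
  refine invol_ne_one (hD.1.1 t ht) (hu.symm.trans ?_)
  exact (hC.ker u).2 (Or.inr (Subtype.ext e))

/-- The neighbours of a member generate its centraliser. -/
theorem loc_Hd (h : Cen d) {a : G} (ha : a ∈ conjugatesOf d) :
    Hd (conjugatesOf d) a = Subgroup.centralizer ({a} : Set G) := by
  have hle : Hd (conjugatesOf d) a ≤ Subgroup.centralizer ({a} : Set G) :=
    (Subgroup.closure_le _).2 fun y hy => nbrs_centralizer hy
  refine le_antisymm hle ?_
  obtain ⟨D, hD, -, hin, hlift⟩ := local_raw (cen_of_mem h ha)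
  rw [conjugates_eq ha] at hle ⊢
  obtain ⟨K, eK⟩ : ∃ K, K = (Hd (conjugatesOf a) a).subgroupOf (Subgroup.centralizer ({a} : Set G)) :=
    ⟨_, rfl⟩
  have hgen : ∀ t, t ∈ K.map (QuotientGroup.mk' (Subgroup.center _)) := by
    intro t
    have : t ∈ Subgroup.closure D := hD.2.2 ▸ Subgroup.mem_top t
    refine (Subgroup.closure_le _).2 (fun s hs => ?_) this
    obtain ⟨u, ⟨hu, hu'⟩, -⟩ := hlift s hs
    exact ⟨u, eK ▸ Subgroup.mem_subgroupOf.2 (Subgroup.subset_closure hu'), hu⟩
  have hdec : ∀ v, ∃ k ∈ K, ∃ c ∈ Subgroup.center ↥(Subgroup.centralizer ({a} : Set G)), v = k * c := by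
    intro v
    obtain ⟨k, hk, hkv⟩ := hgen (QuotientGroup.mk v)
    exact ⟨k, hk, k⁻¹ * v, QuotientGroup.eq.1 hkv, (mul_inv_cancel_left k v).symm⟩
  have hcomm : _root_.commutator ↥(Subgroup.centralizer ({a} : Set G)) ≤ K := by
    rw [_root_.commutator_def, Subgroup.commutator_le]
    intro v _ w _
    obtain ⟨k, hk, c, hc, rfl⟩ := hdec v
    obtain ⟨l, hl, e, he, rfl⟩ := hdec w
    have hc' := Subgroup.mem_center_iff.1 hc
    have he' := Subgroup.mem_center_iff.1 he
    have : ⁅k * c, l * e⁆ = ⁅k, l⁆ := by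
      simp only [commutatorElement_def, mul_inv_rev]
      calc k * c * (l * e) * (c⁻¹ * k⁻¹) * (e⁻¹ * l⁻¹)
          = k * (c * (l * e) * c⁻¹) * k⁻¹ * (e⁻¹ * l⁻¹) := by group
        _ = k * (l * e) * k⁻¹ * (e⁻¹ * l⁻¹) := by rw [← hc' (l * e), mul_inv_cancel_right]
        _ = k * l * (e * (k⁻¹ * e⁻¹)) * l⁻¹ := by group
        _ = k * l * k⁻¹ * l⁻¹ := by
          rw [show e * (k⁻¹ * e⁻¹) = k⁻¹ by rw [← mul_assoc, ← he' k⁻¹, mul_inv_cancel_right]]
    rw [this]
    exact mul_mem (mul_mem (mul_mem hk hl) (inv_mem hk)) (inv_mem hl)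
  rw [Group.isPerfect_def.1 (cen_of_mem h ha).qs.1, top_le_iff] at hcomm
  intro y hy
  have h1 : (⟨y, hy⟩ : ↥(Subgroup.centralizer ({a} : Set G))) ∈ K := hcomm ▸ Subgroup.mem_top _
  exact Subgroup.mem_subgroupOf.1 (eK ▸ h1)

/-- The quotient of the neighbourhood group with the neighbours is of type M(22). -/
theorem loc_iso (h : Cen d) {a : G} (ha : a ∈ conjugatesOf d) :
    (IsSimpleGroup (Qd (conjugatesOf d) a) ∧
      Cfsg.IsThreeTranspositionClass (Db (conjugatesOf d) a) ∧
      Cfsg.IsOfTypeM22 (Qd (conjugatesOf d) a) (Db (conjugatesOf d) a)) ∧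
    (∀ x ∈ Subgroup.center ↥(Hd (conjugatesOf d) a), (x : G) = 1 ∨ (x : G) = a) ∧
    (∀ {u v : G} (hu : u ∈ nbrs (conjugatesOf d) a) (hv : v ∈ nbrs (conjugatesOf d) a),
      bar hu = bar hv → u = v) := by
  have hH := loc_Hd h ha
  have hc := cen_of_mem h ha
  obtain ⟨D, hD, hM, hin, hlift⟩ := local_raw hc
  rw [← conjugates_eq ha] at hin hlift
  let E : ↥(Hd (conjugatesOf d) a) ≃* ↥(Subgroup.centralizer ({a} : Set G)) :=
    MulEquiv.subgroupCongr hH
  have hE : ∀ u, ((E u : ↥(Subgroup.centralizer ({a} : Set G))) : G) = (u : G) := fun _ => rfl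
  have hcen : (Subgroup.center ↥(Hd (conjugatesOf d) a)).map E.toMonoidHom =
      Subgroup.center ↥(Subgroup.centralizer ({a} : Set G)) := map_center_equiv E
  let e := QuotientGroup.congr _ _ E hcen
  have hbar : ∀ (u : ↥(Hd (conjugatesOf d) a)), e (QuotientGroup.mk u) = QuotientGroup.mk (E u) :=
    fun _ => rfl
  have himg : e.symm '' D = Db (conjugatesOf d) a := by
    ext q
    constructor
    · rintro ⟨t, ht, rfl⟩
      obtain ⟨u, ⟨hu, hu'⟩, -⟩ := hlift t ht
      have : e (bar hu') = t := by rw [← hu]; rfl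
      rw [← this, e.symm_apply_apply]
      exact bar_mem hu'
    · rintro ⟨u, hu, rfl⟩
      refine ⟨e (QuotientGroup.mk u), ?_, e.symm_apply_apply _⟩
      rw [hbar]
      exact hin _ (show (u : G) ∈ _ from hu)
  refine ⟨⟨?_, class_congr e.symm himg hD, m22_congr e.symm himg hM⟩, fun x hx => ?_,
    fun {u v} hu hv hb => ?_⟩
  · haveI := hc.qs.2
    exact e.isSimpleGroup
  · exact hc.cen (E x) (hcen ▸ Subgroup.mem_map_of_mem _ hx)
  · have h1 : e (bar hu) = e (bar hv) := congrArg e hb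
    rw [hbar, hbar] at h1
    obtain ⟨w, -, huniq⟩ := hlift _ (hin _ (show ((E ⟨v, Subgroup.subset_closure hv⟩ :
      ↥(Subgroup.centralizer ({a} : Set G))) : G) ∈ _ from hv))
    have e1 := huniq (E ⟨u, Subgroup.subset_closure hu⟩) ⟨h1, hu⟩
    have e2 := huniq (E ⟨v, Subgroup.subset_closure hv⟩) ⟨rfl, hv⟩
    exact congrArg Subtype.val (e1.trans e2.symm)

section Local

variable (h : Cen d) {a u v : G} (ha : a ∈ conjugatesOf d)
  (hu : u ∈ nbrs (conjugatesOf d) a) (hv : v ∈ nbrs (conjugatesOf d) a)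
include h ha

theorem loc_m22 : Cfsg.IsOfTypeM22 (Qd (conjugatesOf d) a) (Db (conjugatesOf d) a) :=
  (loc_iso h ha).1.2.2

theorem loc_group : Cfsg.IsThreeTranspositionGroup (Db (conjugatesOf d) a) :=
  CfsgLib.Trans3.class_isGroup (loc_iso h ha).1.2.1

theorem loc_prim : Cfsg.IsPrimitiveUnderConj (Db (conjugatesOf d) a) :=
  haveI := (loc_iso h ha).1.1
  (m22_prim_of_class (loc_iso h ha).1.2.1 (loc_m22 h ha)).1

theorem loc_lvl : Lvl (Db (conjugatesOf d) a) :=
  lvl_m22 (loc_group h ha) (loc_prim h ha) (loc_m22 h ha)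

theorem loc_center {x : ↥(Hd (conjugatesOf d) a)} (hx : x ∈ Subgroup.center _) :
    (x : G) = 1 ∨ (x : G) = a := (loc_iso h ha).2.1 x hx

theorem loc_sq : a * a = 1 := invol_mul_self (cen_of_mem h ha).ord

include hu hv

theorem loc_bar_inj (e : bar hu = bar hv) : u = v := (loc_iso h ha).2.2 hu hv e

/-- Conjugation of neighbours inside the neighbourhood group. -/
theorem loc_conj_bar (g : ↥(Hd (conjugatesOf d) a))
    (e : (g : Qd (conjugatesOf d) a) * bar hu * (g : Qd (conjugatesOf d) a)⁻¹ = bar hv) :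
    (g : G) * u * (g : G)⁻¹ = v :=
  (loc_iso h ha).2.2 (nbrs_conj' (loc_Hd h ha ▸ g.2) hu) hv e

theorem loc_third : ∃ hm : u * v * u ∈ nbrs (conjugatesOf d) a,
    bar hm = bar hu * bar hv * bar hu := by
  have hi : u⁻¹ = u := invol_inv (cen_of_mem h hu.1).ord
  have hm : u * v * u ∈ nbrs (conjugatesOf d) a := by
    have := nbrs_conj' (nbrs_centralizer hu) hv
    rwa [hi] at this
  refine ⟨hm, ?_⟩
  show (QuotientGroup.mk _ : Qd _ a) = QuotientGroup.mk _ * QuotientGroup.mk _ * QuotientGroup.mk _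
  rw [← QuotientGroup.mk_mul, ← QuotientGroup.mk_mul]; rfl

theorem loc_commute : Commute (bar hu) (bar hv) ↔ Commute u v := by
  refine ⟨fun e => ?_, fun e => ?_⟩
  · obtain ⟨hm, em⟩ := loc_third h ha hu hv
    have h1 : u * v * u = v := loc_bar_inj h ha hm hv (by
      rw [em, e.eq, mul_assoc, Trans3.sq_one (loc_group h ha).1 (bar_mem hu), mul_one])
    show u * v = v * u
    calc u * v = u * (v * (u * u)) := by rw [invol_mul_self (cen_of_mem h hu.1).ord, mul_one]
      _ = u * v * u * u := by group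
      _ = v * u := by rw [h1]
  · show (QuotientGroup.mk _ : Qd _ a) * QuotientGroup.mk _ = _
    rw [← QuotientGroup.mk_mul, ← QuotientGroup.mk_mul]
    exact congrArg QuotientGroup.mk (Subtype.ext e.eq)

theorem loc_braid (hn : ¬ Commute u v) : u * v * u = v * u * v := by
  obtain ⟨hm, em⟩ := loc_third h ha hu hv
  obtain ⟨hm', em'⟩ := loc_third h ha hv hu
  exact loc_bar_inj h ha hm hm' (by
    rw [em, em']
    exact Trans3.braid (loc_group h ha).1 (bar_mem hu) (bar_mem hv)
      fun e => hn ((loc_commute h ha hu hv).1 e))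

theorem loc_prod : (u * v) ^ 2 = 1 ∨ (u * v) ^ 3 = 1 := by
  have su := invol_mul_self (cen_of_mem h hu.1).ord
  have sv := invol_mul_self (cen_of_mem h hv.1).ord
  by_cases e : Commute u v
  · left; rw [e.mul_pow, pow_two, pow_two, su, sv, one_mul]
  · right
    calc (u * v) ^ 3 = u * v * u * (v * u * v) := by rw [pow_succ, pow_two]; group
      _ = u * v * u * (u * v * u) := by rw [loc_braid h ha hu hv e]
      _ = u * v * (u * u) * v * u := by group
      _ = 1 := by rw [su, mul_one, mul_assoc u v v, sv, mul_one, su]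

end Local

end CfsgLib.InvChar.Fi23Inv
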