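import Cfsg.Agent.Lib.InvChar.O7InFi22

/-!
In the presented Fi₂₂, the class of transpositions of the subgroup `L ≅ O₇(3)` of the generators
`b, …, i`: a set of transpositions containing these eight, closed under its own conjugations, with
at most 126 members commuting with any of its members, is this class.
-/

set_option autoImplicit false
set_option maxRecDepth 100000

namespace CfsgLib.InvChar.Fi23Inv.Seven

open CfsgLib.InvChar.Coset CfsgLib.InvChar.SporFi22 CfsgLib.InvChar.O7InFi22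
open Cfsg.Spor (Fi22)

local notation "z₀" => (gen 0 : Fi22)
local notation "DF" => conjugatesOf (gen 0 : Fi22)

theorem conj_eq_iff (g g' : Fi22) : g * z₀ * g⁻¹ = g' * z₀ * g'⁻¹ ↔ rep g zeroPt = rep g' zeroPt := by
  constructor
  · intro e
    have hm : g'⁻¹ * g ∈ Subgroup.centralizer ({z₀} : Set Fi22) := by
      refine Subgroup.mem_centralizer_singleton_iff.2 ?_
      calc g'⁻¹ * g * z₀ = g'⁻¹ * (g * z₀ * g⁻¹) * g := by group
        _ = g'⁻¹ * (g' * z₀ * g'⁻¹) * g := by rw [e]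
        _ = z₀ * (g'⁻¹ * g) := by group
    rw [centralizer_gen_zero] at hm
    have h1 := H_fix _ hm
    change rep (g'⁻¹ * g) zeroPt = zeroPt at h1
    rw [map_mul, map_inv, Equiv.Perm.mul_apply, Equiv.Perm.coe_inv, Equiv.symm_apply_eq] at h1
    exact h1
  · intro e
    have hm : g'⁻¹ * g ∈ H := mem_H_of_fix (by
      rw [map_mul, map_inv, Equiv.Perm.mul_apply, e, Equiv.Perm.coe_inv, Equiv.symm_apply_apply])
    have h1 := gen_zero_central _ hm
    calc g * z₀ * g⁻¹ = g' * (g'⁻¹ * g * z₀) * g⁻¹ := by group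
      _ = g' * z₀ * g'⁻¹ := by rw [h1]; group

/-- The point of a conjugating element determines the transposition. -/
theorem exists_tp : ∃ tp : Fin FiA.table.n → Fi22, ∀ g : Fi22, tp (rep g zeroPt) = g * z₀ * g⁻¹ := by
  classical
  refine ⟨fun p => if h : ∃ g, rep g zeroPt = p then h.choose * z₀ * h.choose⁻¹ else 1, fun g => ?_⟩
  have h : ∃ g', rep g' zeroPt = rep g zeroPt := ⟨g, rfl⟩
  simp only [dif_pos h]
  exact (conj_eq_iff _ _).2 h.choose_spec

theorem reach (p : Fin FiA.table.n) : ∃ g : Fi22, rep g zeroPt = p := by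
  obtain ⟨-, e, he0, he⟩ := index_H
  obtain ⟨g, hg⟩ := QuotientGroup.mk_surjective (e p)
  refine ⟨g, e.injective ?_⟩
  rw [← he, show e zeroPt = ((1 : Fi22) : Fi22 ⧸ H) from he0, ← hg]
  exact congrArg QuotientGroup.mk (mul_one g)

/-- The transposition of a point. -/
noncomputable def tp : Fin FiA.table.n → Fi22 := exists_tp.choose

theorem tp_spec (g : Fi22) : tp (rep g zeroPt) = g * z₀ * g⁻¹ := exists_tp.choose_spec g

theorem tp_mem (p : Fin FiA.table.n) : tp p ∈ DF := by
  obtain ⟨g, rfl⟩ := reach p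
  rw [tp_spec]; exact isConj_iff.2 ⟨g, rfl⟩

theorem tp_inj : Function.Injective tp := fun p q e => by
  obtain ⟨g, rfl⟩ := reach p
  obtain ⟨g', rfl⟩ := reach q
  rw [tp_spec, tp_spec] at e
  exact (conj_eq_iff g g').1 e

theorem tp_conj (g : Fi22) (p : Fin FiA.table.n) : g * tp p * g⁻¹ = tp (rep g p) := by
  obtain ⟨k, rfl⟩ := reach p
  rw [← Equiv.Perm.mul_apply, ← map_mul, tp_spec, tp_spec]; group

theorem tp_surj {v : Fi22} (hv : v ∈ DF) : ∃ p, tp p = v := by
  obtain ⟨g, rfl⟩ := isConj_iff.1 (show IsConj z₀ v from hv)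
  exact ⟨_, tp_spec g⟩

theorem tp_pos (k : Fin 8) : tp (P (pos k)) = gen (k + 1) := by
  rw [← (u_spec k).1, tp_spec, (u_spec k).2]

theorem commute_iff (p q : Fin FiA.table.n) : Commute (tp p) (tp q) ↔ rep (tp p) q = q := by
  constructor
  · intro h
    apply tp_inj
    rw [← tp_conj, h.eq, mul_inv_cancel_right]
  · intro h
    have e := tp_conj (tp p) q
    rw [h] at e
    exact mul_inv_eq_iff_eq_mul.1 e

theorem tp_gen (k : Fin 8) (i : Fin 351) :
    gen (k + 1) * tp (P i) * gen (k + 1) = tp (P (psi (r (pos k)) i)) := by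
  rw [← rep_P, ← tp_conj, inv_eq_of_mul_eq_one_right (gen_mul_self _)]

attribute [local irreducible] o2 o2par o2idx pt pidx tab Table.app

/-- Induction along the tree of the 351. -/
theorem tree {p : Fin 351 → Prop} (h8 : ∀ k : Fin 8, p (pos k))
    (hs : ∀ (k : Fin 8) (i : Fin 351), p i → p (psi (r (pos k)) i)) (i : Fin 351) : p i := by
  obtain ⟨n, hn⟩ := i
  induction n using Nat.strong_induction_on with
  | _ n ih =>
    rcases par_ok n hn with h | ⟨hlt, htab⟩
    · exact h8 ⟨n, h⟩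
    · have := hs ⟨par n % 8, Nat.mod_lt _ (by norm_num)⟩ _ (ih _ hlt (hlt.trans hn))
      convert this using 1
      exact Fin.ext ((psi_r _ _).trans htab).symm

/-- The transpositions of `L`. -/
noncomputable def T : Set Fi22 := Set.range fun i => tp (P i)

theorem T_mem_L (i : Fin 351) : tp (P i) ∈ L := by
  refine tree (p := fun i => tp (P i) ∈ L) (fun k => ?_) (fun k i hi => ?_) i
  · rw [tp_pos]; exact Subgroup.subset_closure ⟨k, rfl⟩
  · have hk : (gen (k + 1) : Fi22) ∈ L := Subgroup.subset_closure ⟨k, rfl⟩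
    rw [← tp_gen]; exact mul_mem (mul_mem hk hi) hk

theorem closure_T : Subgroup.closure T = L := by
  refine le_antisymm ((Subgroup.closure_le _).2 ?_) ?_
  · rintro _ ⟨i, rfl⟩; exact T_mem_L i
  · conv_lhs => rw [L]
    refine Subgroup.closure_mono ?_
    rintro _ ⟨k, rfl⟩
    exact ⟨pos k, tp_pos k⟩

theorem center_L : Subgroup.center L = ⊥ := by
  rw [Subgroup.eq_bot_iff_forall]
  intro z hz
  refine phi_injective (Equiv.ext fun i => P_inj ?_)
  rw [← phi_spec, map_one, Equiv.Perm.one_apply]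
  have h1 : (z : Fi22) * tp (P i) = tp (P i) * z :=
    (congrArg Subtype.val (Subgroup.mem_center_iff.1 hz ⟨_, T_mem_L i⟩)).symm
  exact tp_inj (by rw [← tp_conj, h1, mul_inv_cancel_right])

theorem refl_L : Cfsg.IsProjReflectionGroupModThree L 7 (-1) 1 :=
  ⟨Q7, nondeg_Q7, disc_Q7, ⟨(MonoidHom.ofInjective phi_injective).trans
    ((MulEquiv.subgroupCongr range_phi).trans ((QuotientGroup.quotientKerEquivRange psi).symm.trans
      (QuotientGroup.quotientMulEquivOfEq ker_psi)))⟩⟩

theorem count_ok : ∀ k < 8, (List.range 351).countP (fun i => tab i k == i) = 127 := by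
  decide +kernel

/-- The members of `T` commuting with one of them, without it. -/
noncomputable def row (i : Fin 351) : Set Fi22 :=
  {v | v ∈ T ∧ v ≠ tp (P i) ∧ Commute (tp (P i)) v}

theorem row_card (i : Fin 351) : 126 ≤ (row i).ncard := by
  haveI : Finite Fi22 := card_le.1
  refine tree (p := fun i => 126 ≤ (row i).ncard) (fun k => ?_) (fun k i hi => hi.trans ?_) i
  · classical
    have hc : (Finset.univ.filter fun i : Fin 351 => tab i k = (i : ℕ)).card = 127 := by
      rw [← count_ok k k.2, List.countP_eq_length_filter, ← List.toFinset_card_of_nodup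
        (List.nodup_range.filter _), ← Finset.card_map Fin.valEmbedding]
      congr 1
      ext n
      simp only [Finset.mem_map, Finset.mem_filter, Finset.mem_univ, true_and, Fin.valEmbedding_apply,
        List.mem_toFinset, List.mem_filter, List.mem_range, beq_iff_eq]
      exact ⟨fun ⟨j, hj, e⟩ => e ▸ ⟨j.2, hj⟩, fun ⟨h1, h2⟩ => ⟨⟨n, h1⟩, h2, rfl⟩⟩
    have hsub : (fun j => tp (P j)) '' ↑(Finset.univ.filter fun i : Fin 351 => tab i k = (i : ℕ)) ⊆
        insert (tp (P (pos k))) (row (pos k)) := by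
      rintro _ ⟨j, hj, rfl⟩
      simp only [Finset.coe_filter, Finset.mem_univ, true_and, Set.mem_ofPred_eq] at hj
      by_cases e : tp (P j) = tp (P (pos k))
      · exact Or.inl e
      · refine Or.inr ⟨⟨j, rfl⟩, e, (commute_iff _ _).2 ?_⟩
        rw [tp_pos, rep_P]
        exact congrArg P (Fin.ext ((psi_r k j).trans hj))
    have h1 := Set.ncard_le_ncard hsub (Set.toFinite _)
    rw [Set.ncard_image_of_injective (f := fun j => tp (P j)) _ (fun a b e => P_inj (tp_inj e)),
      Set.ncard_coe_finset, hc] at h1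
    have h2 := Set.ncard_insert_le (tp (P (pos k))) (row (pos k))
    omega
  · have hg : (gen (k + 1) : Fi22) * gen (k + 1) = 1 := gen_mul_self _
    refine Set.ncard_le_ncard_of_injOn (fun v => gen (k + 1) * v * gen (k + 1)) ?_
      (fun a _ b _ e => by simpa using e) (Set.toFinite _)
    rintro _ ⟨⟨j, rfl⟩, h2, h3⟩
    refine ⟨⟨psi (r (pos k)) j, (tp_gen k j).symm⟩, fun e => h2 ?_, ?_⟩
    · rw [← tp_gen] at e
      simpa using e
    · rw [← tp_gen, ← inv_eq_of_mul_eq_one_right hg]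
      nth_rw 1 3 [inv_eq_of_mul_eq_one_right hg]
      exact h3.map (MulAut.conj (gen (k + 1) : Fi22)).toMonoidHom

theorem meets (p : Fin FiA.table.n) : ∃ i, rep (tp (P i)) p = p := by
  rcases orbits_ok p p.2 with ⟨h1, h2⟩ | ⟨h1, h2⟩
  · have h3 := (commute_iff (P ⟨_, h1⟩) (P ⟨_, h1⟩)).1 (Commute.refl _)
    have e : P ⟨_, h1⟩ = p := Fin.ext h2
    rw [e] at h3
    exact ⟨⟨_, h1⟩, by rw [e]; exact h3⟩
  · suffices ∀ n, ∀ _ : n < 3159, ∀ hp : o2 n < 3510, ∃ i, rep (tp (P i)) ⟨o2 n, hp⟩ = ⟨o2 n, hp⟩ by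
      have hp : o2 (o2idx p) < 3510 := by rw [h2]; exact p.2
      rw [show p = ⟨o2 (o2idx p), hp⟩ from Fin.ext h2.symm]
      exact this _ h1 hp
    intro n
    induction n using Nat.strong_induction_on with
    | _ n ih =>
      intro hn hp
      rcases o2_ok n hn with rfl | ⟨hlt, happ⟩
      · refine ⟨pos 1, ?_⟩
        rw [tp_pos, show (⟨o2 0, hp⟩ : Fin FiA.table.n) = zeroPt from Fin.ext o2_zero]
        exact Fin.ext ((rep_gen_apply (by norm_num) _).trans (zero_fixed 0 (by norm_num)))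
      · have hq : o2 (o2par n / 8) < 3510 := o2_lt _ (hlt.trans hn)
        let k : Fin 8 := ⟨o2par n % 8, Nat.mod_lt _ (by norm_num)⟩
        have e : (⟨o2 n, hp⟩ : Fin FiA.table.n) = rep (gen (k + 1)) ⟨o2 (o2par n / 8), hq⟩ :=
          Fin.ext (((rep_gen_apply (x := (k : ℕ) + 1) (by omega) _).trans happ).symm)
        obtain ⟨i, hi⟩ := ih _ hlt (hlt.trans hn) hq
        refine ⟨psi (r (pos k)) i, ?_⟩
        rw [← commute_iff] at hi
        rw [← commute_iff, e, ← tp_conj, ← rep_P, ← tp_conj]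
        exact hi.map (MulAut.conj (gen (k + 1) : Fi22)).toMonoidHom

/-- The characterisation of `T`. -/
theorem eq_T {S : Set Fi22} (hS : S ⊆ DF) (hk : ∀ k : Fin 8, (gen (k + 1) : Fi22) ∈ S)
    (hc : ∀ u ∈ S, ∀ v ∈ S, u * v * u ∈ S)
    (hle : ∀ u ∈ S, {v | v ∈ S ∧ v ≠ u ∧ Commute u v}.ncard ≤ 126) : S = T := by
  haveI : Finite Fi22 := card_le.1
  have hTS : ∀ i, tp (P i) ∈ S := by
    refine fun i => tree (p := fun i => tp (P i) ∈ S) (fun k => ?_) (fun k i hi => ?_) i
    · rw [tp_pos]; exact hk k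
    · rw [← tp_gen]; exact hc _ (hk k) _ hi
  refine Set.Subset.antisymm (fun v hv => ?_) ?_
  swap
  · rintro _ ⟨i, rfl⟩; exact hTS i
  obtain ⟨p, rfl⟩ := tp_surj (hS hv)
  obtain ⟨i, hi⟩ := meets p
  rw [← commute_iff] at hi
  by_cases e : tp p = tp (P i)
  · exact ⟨i, e.symm⟩
  have hsub : row i ⊆ {v | v ∈ S ∧ v ≠ tp (P i) ∧ Commute (tp (P i)) v} := by
    rintro _ ⟨⟨j, rfl⟩, h2, h3⟩; exact ⟨hTS j, h2, h3⟩
  have heq := Set.eq_of_subset_of_ncard_le hsub ((hle _ (hTS i)).trans (row_card i)) (Set.toFinite _)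
  have : tp p ∈ row i := heq ▸ ⟨hv, e, hi⟩
  exact this.1

end CfsgLib.InvChar.Fi23Inv.Seven
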