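import Cfsg.Agent.Lib.InvChar.Fi23Inv.Eight
import Cfsg.Agent.Lib.InvChar.Fi23Inv.Seven
import Cfsg.Agent.Lib.Trans3.FiConf.Config23

/-!
The group generated by the common neighbours of a non-commuting pair: in the quotient at one of the
pair it is the subgroup `O₇(3)` of the presented Fi₂₂.
-/

set_option autoImplicit false
set_option linter.unusedSectionVars false
set_option maxRecDepth 100000

namespace CfsgLib.InvChar.Fi23Inv

open CfsgLib.Trans3 CfsgLib.Trans3.Fi CfsgLib.Trans3.FiConf CfsgLib.Trans3.Spider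
open CfsgLib.InvChar.Coset
open Cfsg.Spor (Fi22)

variable {G : Type*} [Group G] [Finite G] {d : G} (h : Cen d)
include h

theorem cn_nbrs {a c y : G} (hac : ¬ Commute a c) (hy : y ∈ CN (conjugatesOf d) a c) :
    y ∈ nbrs (conjugatesOf d) a :=
  ⟨hy.1, fun e => hac ((e ▸ hy.2.2).symm), hy.2.1⟩

theorem cn_closed {a c u v : G} (hu : u ∈ CN (conjugatesOf d) a c)
    (hv : v ∈ CN (conjugatesOf d) a c) : u * v * u ∈ CN (conjugatesOf d) a c :=
  ⟨d_conj h hu.1 hv.1, (hu.2.1.mul_right hv.2.1).mul_right hu.2.1,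
    (hu.2.2.mul_right hv.2.2).mul_right hu.2.2⟩

/-- Nine neighbours of `a` in the shape `Y₃₃₂`, eight of them commuting with `c` too. -/
theorem nine_nodes {a c w : G} (ha : a ∈ conjugatesOf d) (hc : c ∈ conjugatesOf d)
    (hac : ¬ Commute a c) (hw : w ∈ CN (conjugatesOf d) a c) :
    ∃ s : ℕ → Qd (conjugatesOf d) a, Y332 s ∧ ¬ Commute (s 3) (s 2) ∧
      (s 2 * wprod s Data.theta) ^ 3 = 1 ∧ s 2 * wprod s Data.theta ≠ 1 ∧
      (∀ x ∈ nodes, s x ∈ Db (conjugatesOf d) a) ∧
      ∀ x ∈ nodes8, ∃ u, ∃ hu : u ∈ CN (conjugatesOf d) a c, s x = bar (cn_nbrs h hac hu) := by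
  classical
  obtain ⟨y, hm, hyr, hno⟩ := eight_nodes h ha hc hac hw
  have hg := loc_group h ha
  have nb : ∀ x ∈ nodes8, y x ∈ nbrs (conjugatesOf d) a := fun x hx => cn_nbrs h hac (hm x hx)
  obtain ⟨Y, eY⟩ : ∃ Y : ℕ → Qd (conjugatesOf d) a,
      Y = fun x => if hx : x ∈ nodes8 then bar (nb x hx) else 1 := ⟨_, rfl⟩
  have hY : ∀ x (hx : x ∈ nodes8), Y x = bar (nb x hx) := fun x hx => by rw [eY]; exact dif_pos hx
  -- choose the arm and relabel
  obtain ⟨σ, g, hσ, hgm, hg6, hgx⟩ : ∃ σ : ℕ → ℕ, ∃ g, (σ = id ∨ σ = swapShort) ∧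
      g ∈ Db (conjugatesOf d) a ∧
      ¬ Commute g (Y (σ 6)) ∧ ∀ x ∈ nodes8, x ≠ 6 → Commute g (Y (σ x)) := by
    rcases extend22 hg (loc_prim h ha) (loc_m22 h ha) Y
        (fun x hx => by rw [hY x hx]; exact bar_mem _)
        (fun x hx z hz e => by rw [hY x hx, hY z hz, loc_commute h ha]; exact (hyr x hx z hz).1 e)
        (fun x hx z hz e hc' => (hyr x hx z hz).2 e (by
          rwa [hY x hx, hY z hz, loc_commute h ha] at hc'))
      with ⟨gb, hgb, e6, ex⟩ | ⟨gb, hgb, e6, ex⟩
    · exact ⟨id, gb, Or.inl rfl, hgb, e6, ex⟩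
    · exact ⟨swapShort, gb, Or.inr rfl, hgb, e6, fun x hx hne =>
        ex _ (swapShort_ok x hx).1 ((by decide : ∀ x ∈ nodes8, x ≠ 6 → swapShort x ≠ 8) x hx hne)⟩
  have hσm : ∀ x ∈ nodes8, σ x ∈ nodes8 := by
    rcases hσ with rfl | rfl
    · exact fun x hx => hx
    · exact fun x hx => (swapShort_ok x hx).1
  have hσl : ∀ x ∈ nodes8, ∀ z ∈ nodes8, lab11 (σ x) (σ z) = lab11 x z := by
    rcases hσ with rfl | rfl
    · exact fun x hx z hz => rfl
    · exact fun x hx => (swapShort_ok x hx).2.2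
  obtain ⟨s, es⟩ : ∃ s : ℕ → Qd (conjugatesOf d) a,
      s = fun x => if x = 9 then g else if x ∈ nodes8 then Y (σ x) else 1 := ⟨_, rfl⟩
  have s9 : s 9 = g := by rw [es]; simp
  have s8 : ∀ x (hx : x ∈ nodes8), s x = bar (nb _ (hσm x hx)) := fun x hx => by
    have : x ≠ 9 := fun e => absurd (e ▸ hx) (by decide)
    rw [es, ← hY _ (hσm x hx)]; simp [this, hx]
  have hcase : ∀ x ∈ nodes, x = 9 ∨ x ∈ nodes8 := by decide
  have hsn : ∀ x ∈ nodes, s x ∈ Db (conjugatesOf d) a := by
    intro x hx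
    rcases hcase x hx with rfl | hx
    · rw [s9]; exact hgm
    · rw [s8 x hx]; exact bar_mem _
  have hsq : ∀ x, s x * s x = 1 := by
    intro x
    by_cases hx : x ∈ nodes
    · exact Trans3.sq_one hg.1 (hsn x hx)
    · have : x ≠ 9 ∧ x ∉ nodes8 := by simp [nodes, nodes8] at hx ⊢; omega
      rw [es]; simp [this.1, this.2]
  have hrel : ∀ x ∈ nodes, ∀ z ∈ nodes, (lab11 x z = 2 → Commute (s x) (s z)) ∧
      (lab11 x z = 3 → ¬ Commute (s x) (s z)) := by
    intro x hx z hz
    rcases hcase x hx with rfl | hx' <;> rcases hcase z hz with rfl | hz'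
    · exact ⟨fun e => absurd e (by decide), fun e => absurd e (by decide)⟩
    · rw [s9, s8 z hz', ← hY _ (hσm z hz')]
      by_cases hz6 : z = 6
      · subst hz6; exact ⟨fun e => absurd e (by decide), fun _ => hg6⟩
      · exact ⟨fun _ => hgx z hz' hz6, fun e =>
          absurd e ((by decide : ∀ z ∈ nodes8, z ≠ 6 → lab11 9 z ≠ 3) z hz' hz6)⟩
    · rw [s9, s8 x hx', ← hY _ (hσm x hx')]
      by_cases hx6 : x = 6
      · subst hx6; exact ⟨fun e => absurd e (by decide), fun _ e => hg6 e.symm⟩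
      · exact ⟨fun _ => (hgx x hx' hx6).symm, fun e =>
          absurd e ((by decide : ∀ x ∈ nodes8, x ≠ 6 → lab11 x 9 ≠ 3) x hx' hx6)⟩
    · rw [s8 x hx', s8 z hz', loc_commute h ha]
      exact ⟨fun e => (hyr _ (hσm x hx') _ (hσm z hz')).1 ((hσl x hx' z hz').trans e),
        fun e => (hyr _ (hσm x hx') _ (hσm z hz')).2 ((hσl x hx' z hz').trans e)⟩
  have hnd : ¬ Commute (s 3) (s 2) := (hrel 3 (by decide) 2 (by decide)).2 (by decide)
  have hY9 : Y332 s := by
    refine ⟨hsq, fun x hx z hz => ?_, Trans3.ne_of_not_commute hnd⟩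
    rcases (by decide : ∀ x ∈ nodes, ∀ z ∈ nodes,
      (lab11 x z = 1 ∧ x = z) ∨ lab11 x z = 2 ∨ lab11 x z = 3) x hx z hz with ⟨e', rfl⟩ | e' | e'
    · rw [e', pow_one, hsq]
    · rw [e']
      exact (Trans3.commute_iff_pow_two hg.1 (hsn x hx) (hsn z hz)).1 ((hrel x hx z hz).1 e')
    · rw [e']; exact Trans3.pow_three hg.1 (hsn x hx) (hsn z hz) ((hrel x hx z hz).2 e')
  -- the word `θ`
  obtain ⟨T, hT, eT⟩ : ∃ T, ∃ hT : T ∈ CN (conjugatesOf d) a c,
      wprod s Data.theta = bar (cn_nbrs h hac hT) := by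
    have key : ∀ W : List ℕ, (∀ x ∈ W, x ∈ nodes8) → ∃ T, ∃ hT : T ∈ CN (conjugatesOf d) a c,
        wprod s (W ++ [0] ++ W.reverse) = bar (cn_nbrs h hac hT) := by
      intro W
      induction W with
      | nil =>
        intro _
        refine ⟨_, hm _ (hσm 0 (by decide)), ?_⟩
        simp only [List.reverse_nil, List.append_nil, List.nil_append, wprod_singleton, s8 0 (by decide)]
      | cons x W ih =>
        intro hW
        obtain ⟨T, hT, eT⟩ := ih fun z hz => hW z (List.mem_cons_of_mem _ hz)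
        have hx := hW x List.mem_cons_self
        obtain ⟨m, em⟩ := loc_third h ha (nb _ (hσm x hx)) (cn_nbrs h hac hT)
        refine ⟨_, cn_closed h (hm _ (hσm x hx)) hT, ?_⟩
        rw [show x :: W ++ [0] ++ (x :: W).reverse = [x] ++ (W ++ [0] ++ W.reverse) ++ [x] by simp,
          wprod_append, wprod_append, eT, wprod_singleton, s8 x hx]
        exact em.symm
    rw [theta_conj]
    exact key _ (by decide)
  have hb : ¬ Commute (s 2) (wprod s Data.theta) := by
    intro e
    have hT2 : wprod s Data.theta * wprod s Data.theta = 1 := by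
      rw [← wprod_append]; exact hY9.reduces theta_sq
    have hTc : ∀ k < 6, Commute (wprod s Data.theta) (s ([0, 5, 6, 7, 8, 3].getD k 0)) := by
      intro k hk
      have h1 := hY9.reduces (theta_ok k hk)
      rw [wprod_rpt, wprod_append, wprod_singleton] at h1
      exact comm_of_pow hT2 (hsq _) h1
    have all7 : ∀ x ∈ [0, 2, 3, 5, 6, 7, 8], Commute T (y (σ x)) := by
      intro x hx
      have hx8 : x ∈ nodes8 := (by decide : ∀ x ∈ [0, 2, 3, 5, 6, 7, 8], x ∈ nodes8) x hx
      rw [← loc_commute h ha (cn_nbrs h hac hT) (nb _ (hσm x hx8)), ← eT, ← s8 x hx8]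
      simp only [List.mem_cons, List.not_mem_nil, or_false] at hx
      rcases hx with rfl | rfl | rfl | rfl | rfl | rfl | rfl
      exacts [hTc 0 (by norm_num), e.symm, hTc 5 (by norm_num), hTc 1 (by norm_num),
        hTc 2 (by norm_num), hTc 3 (by norm_num), hTc 4 (by norm_num)]
    refine hno T hT fun x hx => ?_
    rcases hσ with rfl | rfl
    · exact all7 x hx
    · obtain ⟨e1, e2⟩ := (by decide : ∀ x ∈ [0, 2, 3, 5, 6, 7, 8],
        swapShort x ∈ [0, 2, 3, 5, 6, 7, 8] ∧ swapShort (swapShort x) = x) x hx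
      have := all7 _ e1
      rwa [e2] at this
  refine ⟨s, hY9, hnd, Trans3.pow_three hg.1 (hsn 2 (by decide)) (by rw [eT]; exact bar_mem _) hb,
    fun e => hb ?_, hsn, fun x hx => ⟨_, hm _ (hσm x hx), s8 x hx⟩⟩
  have h1 := eq_inv_of_mul_eq_one_left e
  exact h1 ▸ (Commute.refl _).inv_left

/-- The group of the common neighbours is the reflection group in dimension seven. -/
theorem pair_group {a c w : G} (ha : a ∈ conjugatesOf d) (hc : c ∈ conjugatesOf d)
    (hac : ¬ Commute a c) (hw : w ∈ CN (conjugatesOf d) a c) :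
    Cfsg.IsProjReflectionGroupModThree
      (↥(Subgroup.closure (CN (conjugatesOf d) a c)) ⧸
        Subgroup.center ↥(Subgroup.closure (CN (conjugatesOf d) a c))) 7 (-1) 1 := by
  classical
  obtain ⟨s, hY, hnd, hb3, hb1, hsD, hs8⟩ := nine_nodes h ha hc hac hw
  have hg := loc_group h ha
  have hsw : ∀ t, wprod (fun x => s (swapArms x)) t = wprod s (t.map swapArms) := fun t => by
    simp [wprod, List.map_map, Function.comp_def]
  have h310 : ¬ 3 ^ 10 ∣ Nat.card (Qd (conjugatesOf d) a) := by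
    rw [m22_card hg (loc_prim h ha) (loc_m22 h ha)]; decide
  obtain ⟨hsp, hsp'⟩ := spider_holds hY hb3 hb1 h310
  have hnd' : ¬ Commute (s 9) (s 6) := by
    intro e
    have h1 := hY.cox 9 (by decide) 6 (by decide)
    rw [show lab11 9 6 = 3 by decide] at h1
    have h2 := (Trans3.commute_iff_pow_two hg.1 (hsD 9 (by decide)) (hsD 6 (by decide))).1 e
    rw [pow_succ, h2, one_mul] at h1
    have h96 : s 9 = s 6 := by
      have := eq_inv_of_mul_eq_one_left h1
      rwa [inv_eq_of_mul_eq_one_right (hY.sq 6)] at this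
    have h3 := hY.cox 9 (by decide) 5 (by decide)
    have h4 := hY.cox 6 (by decide) 5 (by decide)
    rw [show lab11 9 5 = 2 by decide, h96] at h3
    rw [show lab11 6 5 = 3 by decide, pow_succ, h3, one_mul] at h4
    have h65 : s 6 = s 5 := by
      have := eq_inv_of_mul_eq_one_left h4
      rwa [inv_eq_of_mul_eq_one_right (hY.sq 5)] at this
    have h5 := hY.cox 6 (by decide) 0 (by decide)
    have h6 := hY.cox 5 (by decide) 0 (by decide)
    rw [show lab11 6 0 = 2 by decide, h65] at h5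
    rw [show lab11 5 0 = 3 by decide, pow_succ, h5, one_mul] at h6
    have h50 : s 5 = s 0 := by
      have := eq_inv_of_mul_eq_one_left h6
      rwa [inv_eq_of_mul_eq_one_right (hY.sq 0)] at this
    have h7 := hY.cox 5 (by decide) 1 (by decide)
    have h8 := hY.cox 0 (by decide) 1 (by decide)
    rw [show lab11 5 1 = 2 by decide, h50] at h7
    rw [show lab11 0 1 = 3 by decide, pow_succ, h7, one_mul] at h8
    have h01 : s 0 = s 1 := by
      have := eq_inv_of_mul_eq_one_left h8
      rwa [inv_eq_of_mul_eq_one_right (hY.sq 1)] at this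
    have h9 := hY.cox 0 (by decide) 2 (by decide)
    have h10 := hY.cox 1 (by decide) 2 (by decide)
    rw [show lab11 0 2 = 2 by decide, h01] at h9
    rw [show lab11 1 2 = 3 by decide, pow_succ, h9, one_mul] at h10
    have h12 : s 1 = s 2 := by
      have := eq_inv_of_mul_eq_one_left h10
      rwa [inv_eq_of_mul_eq_one_right (hY.sq 2)] at this
    have h11 := hY.cox 1 (by decide) 3 (by decide)
    rw [show lab11 1 3 = 2 by decide, h12] at h11
    exact hnd (comm_of_pow (hY.sq 2) (hY.sq 3) h11).symm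
  obtain ⟨E, hE⟩ : ∃ E : Fi22 ≃* Qd (conjugatesOf d) a,
      ∀ x, E (PresentedGroup.of x) = s (swapArms (ix22 x)) := by
    refine m22_iso_spider (s := fun x => s (swapArms x)) hg (loc_prim h ha) (loc_m22 h ha)
      ⟨fun x => hY.sq _, fun x hx y hy => ?_, Trans3.ne_of_not_commute hnd'⟩ hnd'
      (by rw [hsw]; exact hsp')
      (by rw [hsw, List.map_map, show spW.map (swapArms ∘ swapArms) = spW by decide]; exact hsp)
    obtain ⟨h1, h2, h3⟩ := (by decide : ∀ x ∈ nodes, ∀ y ∈ nodes,
      swapArms x ∈ nodes ∧ swapArms y ∈ nodes ∧ lab11 (swapArms x) (swapArms y) = lab11 x y) x hx y hy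
    exact h3 ▸ hY.cox _ h1 _ h2
  have hgen : ∀ k : ℕ, k < 9 → E (SporFi22.gen k) = s (swapArms (ix22 (SporFi22.ofN k))) := fun k hk => by
    rw [← hE, SporFi22.gen, IsPres.gen, if_pos hk]
  -- the class
  obtain ⟨hclset, ⟨e₀, he₀, hDb⟩, -⟩ := (loc_iso h ha).1.2.1
  have hclass : ∀ v, v ∈ conjugatesOf (SporFi22.gen 0 : Fi22) ↔ E v ∈ Db (conjugatesOf d) a := by
    have h0 : E (SporFi22.gen 0) ∈ conjugatesOf e₀ := by
      rw [← hDb, hgen 0 (by norm_num)]; exact hsD _ (by decide)
    intro v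
    rw [hDb]
    constructor
    · intro hv
      exact (show IsConj e₀ (E (SporFi22.gen 0)) from h0).trans (MonoidHom.map_isConj E.toMonoidHom hv)
    · intro hv
      have := MonoidHom.map_isConj E.symm.toMonoidHom
        ((show IsConj e₀ (E (SporFi22.gen 0)) from h0).symm.trans hv)
      show IsConj _ v
      simpa using this
  obtain ⟨S, eS⟩ : ∃ S : Set Fi22, S = {v | ∃ y, ∃ hy : y ∈ CN (conjugatesOf d) a c,
      E v = bar (cn_nbrs h hac hy)} := ⟨_, rfl⟩
  have hST : S = Seven.T := by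
    refine Seven.eq_T (fun v hv => ?_) (fun k => ?_) (fun u hu v hv => ?_) fun u hu => ?_
    · rw [eS] at hv
      obtain ⟨y, hy, e⟩ := hv
      exact (hclass v).2 (e ▸ bar_mem _)
    · rw [eS]
      obtain ⟨y, hy, e⟩ := hs8 (swapArms (ix22 (SporFi22.ofN (k + 1))))
        ((by decide : ∀ k : Fin 8, swapArms (ix22 (SporFi22.ofN (k + 1))) ∈ nodes8) k)
      exact ⟨y, hy, (hgen _ (by omega)).trans e⟩
    · rw [eS] at hu hv ⊢
      obtain ⟨y, hy, e⟩ := hu
      obtain ⟨z, hz, e'⟩ := hv
      obtain ⟨m, em⟩ := loc_third h ha (cn_nbrs h hac hy) (cn_nbrs h hac hz)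
      exact ⟨_, cn_closed h hy hz, by rw [map_mul, map_mul, e, e']; exact em.symm⟩
    · rw [eS] at hu
      obtain ⟨y, hy, e⟩ := hu
      let f : G → Qd (conjugatesOf d) a :=
        fun g => if hg : g ∈ nbrs (conjugatesOf d) a then bar hg else 1
      refine le_trans ?_ (card_le_126 h ha hc hac hy)
      refine le_trans ?_ (Set.ncard_image_le (f := f) (Set.toFinite _))
      rw [← Set.ncard_image_of_injective _ E.injective]
      refine Set.ncard_le_ncard ?_ (Set.toFinite _)
      rintro _ ⟨v, ⟨hv, hne, hcm⟩, rfl⟩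
      rw [eS] at hv
      obtain ⟨z, hz, e'⟩ := hv
      refine ⟨z, ⟨hz, hz.1, fun e'' => hne (E.injective ?_), ?_⟩, ?_⟩
      · rw [e, e']; subst e''; rfl
      · have := hcm.map E.toMonoidHom
        rwa [show E.toMonoidHom u = E u from rfl, show E.toMonoidHom v = E v from rfl, e, e',
          loc_commute h ha] at this
      · simp only [f, dif_pos (cn_nbrs h hac hz)]; exact e'.symm
  -- the map from the group of the common neighbours
  obtain ⟨K, eK⟩ : ∃ K, K = Subgroup.closure (CN (conjugatesOf d) a c) := ⟨_, rfl⟩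
  have hKH : K ≤ Hd (conjugatesOf d) a :=
    eK ▸ (Subgroup.closure_le _).2 fun y hy => Subgroup.subset_closure (cn_nbrs h hac hy)
  let φ : ↥K →* Qd (conjugatesOf d) a :=
    (QuotientGroup.mk' _).comp (Subgroup.inclusion hKH)
  have hφ : Function.Injective φ := by
    rw [← MonoidHom.ker_eq_bot_iff, Subgroup.eq_bot_iff_forall]
    intro z hz
    rcases loc_center h ha ((QuotientGroup.eq_one_iff _).1 (MonoidHom.mem_ker.1 hz)) with e | e
    · exact Subtype.ext e
    · exfalso
      change (z : G) = a at e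
      have : ∀ g ∈ K, Commute c g := by
        intro g hg
        rw [eK] at hg
        induction hg using Subgroup.closure_induction with
        | mem u hu => exact hu.2.2
        | one => exact Commute.one_right _
        | mul _ _ _ _ h1 h2 => exact h1.mul_right h2
        | inv _ _ h1 => exact h1.inv_right
      exact hac (e ▸ (this z z.2).symm)
  have hrange : φ.range = (Subgroup.closure Seven.T).map E.toMonoidHom := by
    subst eK
    rw [MonoidHom.map_closure, ← hST, MonoidHom.range_eq_map,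
      ← Subgroup.closure_closure_coe_preimage (k := CN (conjugatesOf d) a c), MonoidHom.map_closure]
    congr 1
    ext q
    constructor
    · rintro ⟨y, hy, rfl⟩
      refine ⟨E.symm (φ y), ?_, E.apply_symm_apply _⟩
      rw [eS]
      exact ⟨y, hy, E.apply_symm_apply _⟩
    · rintro ⟨v, hv, rfl⟩
      rw [eS] at hv
      obtain ⟨y, hy, e⟩ := hv
      exact ⟨⟨y, Subgroup.subset_closure hy⟩, hy, e.symm⟩
  rw [Seven.closure_T] at hrange
  subst eK
  let ψ : ↥(Subgroup.closure (CN (conjugatesOf d) a c)) ≃* ↥O7InFi22.L :=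
    (MonoidHom.ofInjective hφ).trans ((MulEquiv.subgroupCongr hrange).trans
      (E.subgroupMap O7InFi22.L).symm)
  have hzb : Subgroup.center ↥(Subgroup.closure (CN (conjugatesOf d) a c)) = ⊥ :=
    center_congr ψ.symm Seven.center_L
  exact proj_congr (ψ.symm.trans ((QuotientGroup.quotientMulEquivOfEq hzb).trans
    QuotientGroup.quotientBot).symm) Seven.refl_L

end CfsgLib.InvChar.Fi23Inv
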