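import Cfsg.Agent.Lib.InvChar.Fi23Inv.Loc
import Cfsg.Agent.Lib.Trans3.Fi.M23Common

/-!
Elementary facts on commuting members of a set of 3-transpositions closed under its own
conjugation, and relations among commuting conjugates of the involution.
-/

set_option autoImplicit false
set_option linter.unusedSectionVars false

namespace CfsgLib.InvChar.Fi23Inv

open CfsgLib.Trans3 CfsgLib.Trans3.Fi
open CfsgLib.InvChar.Fi22Inv (conj_mem nbrs_centralizer nbrs_conj')

section Small

variable {G : Type*} [Group G]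

theorem sflip_iff {s : G} (hs : s * s = 1) (x y : G) :
    Commute (s * x * s) (s * y * s) ↔ Commute x y := by
  have := commute_conj_iff s x y
  rwa [inv_eq_of_mul_eq_one_right hs] at this

theorem sflip_fix {s x : G} (hs : s * s = 1) (h : Commute s x) : s * x * s = x := by
  rw [h.eq, mul_assoc, hs, mul_one]

theorem sflip_flip {s x : G} (hs : s * s = 1) : s * (s * x * s) * s = x := by
  rw [show s * (s * x * s) * s = (s * s) * x * (s * s) by group, hs, one_mul, mul_one]

variable {S : Set G} (hS : Cfsg.IsThreeTranspositionSet S)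
include hS

/-- A member commutes with a product of at most three commuting members only if with each. -/
theorem commute_of_prod' {m : ℕ} (hm : m ≤ 3) {j e : G} {l : List G} (h : Fac S m j l)
    (he : e ∈ S) (hej : Commute e j) : ∀ a ∈ l, Commute e a := by
  obtain ⟨h1, h2, h3, h4, rfl⟩ := h
  match l, h2 with
  | [], _ => simp
  | [a], _ => simpa using hej
  | [a, b], _ =>
    simp only [List.nodup_cons, List.mem_cons, List.not_mem_nil, or_false] at h1
    simp only [List.prod_cons, List.prod_nil, mul_one] at hej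
    have := (commute_mul_iff hS (h3 a (by simp)) (h3 b (by simp)) he h1.1
      (h4 a (by simp) b (by simp))).1 hej
    simpa using this
  | [a, b, c], _ =>
    simp only [List.nodup_cons, List.mem_cons, List.not_mem_nil, or_false, not_or] at h1
    simp only [List.prod_cons, List.prod_nil, mul_one, ← mul_assoc] at hej
    have := (commute_mul_mul_iff hS (h3 a (by simp)) (h3 b (by simp)) (h3 c (by simp)) he h1.1.1
      h1.1.2 h1.2.1 (h4 a (by simp) b (by simp)) (h4 a (by simp) c (by simp))
      (h4 b (by simp) c (by simp))).1 hej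
    simpa using this
  | _ :: _ :: _ :: _ :: _, h2 => simp at h2; omega

variable (hS' : ∀ u ∈ S, ∀ v ∈ S, u * v * u ∈ S)
include hS'

/-- The conjugate by a commuting pair avoiding `y` commutes with `y`. -/
theorem pair_conj' {b c y : G} (hb : b ∈ S) (hc : c ∈ S) (hy : y ∈ S) (hbc : Commute b c)
    (nb : ¬ Commute y b) (nc : ¬ Commute y c) : Commute y (b * (c * y * c) * b) := by
  have e : b * (c * y * c) * b = b * y * c * y * b := by
    rw [← Trans3.braid hS hy hc nc]; group
  have h2 : y * (b * (c * y * c) * b) * y = b * (c * y * c) * b := by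
    rw [e]
    calc y * (b * y * c * y * b) * y = (y * b * y) * c * (y * b * y) := by group
      _ = (b * y * b) * c * (b * y * b) := by rw [Trans3.braid hS hy hb nb]
      _ = b * y * (b * c * b) * y * b := by group
      _ = b * y * c * y * b := by rw [sflip_fix (Trans3.sq_one hS hb) hbc]
  refine commute_of_conj_eq ?_
  rwa [Trans3.inv_eq hS hy]

/-- If a product of two commuting members avoiding `y` with an element fixing `y` is a product of
three commuting members, one of these commutes with `y`. -/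
theorem pentad' {b c s t₁ t₂ t₃ y : G} (hb : b ∈ S) (hc : c ∈ S) (hy : y ∈ S)
    (ht : Fac S 3 (b * c * s) [t₁, t₂, t₃]) (hbc : Commute b c) (nb : ¬ Commute y b)
    (nc : ¬ Commute y c) (hs : Commute y s) : ∃ t ∈ [t₁, t₂, t₃], Commute y t := by
  by_contra! hn
  obtain ⟨hnd, -, hm, hco, hp⟩ := ht
  have h1 := hm t₁ (by simp)
  have h2 := hm t₂ (by simp)
  have h3 := hm t₃ (by simp)
  have n1 := hn t₁ (by simp)
  have n2 := hn t₂ (by simp)
  have n3 := hn t₃ (by simp)
  have q2 := Trans3.sq_one hS h2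
  have q3 := Trans3.sq_one hS h3
  obtain ⟨v, ev⟩ : ∃ v, v = t₂ * (t₃ * y * t₃) * t₂ := ⟨_, rfl⟩
  have hv : v ∈ S := ev ▸ hS' _ h2 _ (hS' _ h3 _ hy)
  have hyv : Commute y v := ev ▸ pair_conj' hS hS' h2 h3 hy (hco _ (by simp) _ (by simp)) n2 n3
  have hnv : ¬ Commute v t₁ := by
    rw [ev, ← sflip_fix q2 (hco t₂ (by simp) t₁ (by simp)), sflip_iff q2,
      ← sflip_fix q3 (hco t₃ (by simp) t₁ (by simp)), sflip_iff q3]
    exact n1
  have hR : (t₁ * t₂ * t₃) * y * (t₁ * t₂ * t₃)⁻¹ = t₁ * v * t₁ := by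
    rw [mul_inv_rev, mul_inv_rev, Trans3.inv_eq hS h1, Trans3.inv_eq hS h2, Trans3.inv_eq hS h3, ev]
    group
  have hL : (t₁ * t₂ * t₃) * y * (t₁ * t₂ * t₃)⁻¹ = b * (c * y * c) * b := by
    have : t₁ * t₂ * t₃ = b * c * s := by
      rw [← hp]; simp [mul_assoc]
    rw [this]
    calc b * c * s * y * (b * c * s)⁻¹ = b * (c * (s * y * s⁻¹) * c⁻¹) * b⁻¹ := by group
      _ = _ := by rw [conj_eq_of_commute hs.symm, Trans3.inv_eq hS hb, Trans3.inv_eq hS hc]
  have hfin := pair_conj' hS hS' hb hc hy hbc nb nc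
  rw [← hL, hR, ← Trans3.braid hS hv h1 hnv, ← sflip_fix (Trans3.sq_one hS hv) hyv.symm,
    sflip_iff (Trans3.sq_one hS hv)] at hfin
  exact n1 hfin

end Small

variable {G : Type*} [Group G] [Finite G] {d : G} (h : Cen d)
include h

theorem d_sq {x : G} (hx : x ∈ conjugatesOf d) : x * x = 1 :=
  invol_mul_self (cen_of_mem h hx).ord

theorem d_conj {u v : G} (hu : u ∈ conjugatesOf d) (hv : v ∈ conjugatesOf d) :
    u * v * u ∈ conjugatesOf d := by
  have := conj_mem (d := d) u hv
  rwa [invol_inv (cen_of_mem h hu).ord] at this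

/-- The neighbours of a member form a set of 3-transpositions closed under its conjugations. -/
theorem nb_set {a : G} (ha : a ∈ conjugatesOf d) :
    Cfsg.IsThreeTranspositionSet (nbrs (conjugatesOf d) a) ∧
      ∀ u ∈ nbrs (conjugatesOf d) a, ∀ v ∈ nbrs (conjugatesOf d) a,
        u * v * u ∈ nbrs (conjugatesOf d) a :=
  ⟨⟨fun u hu => (cen_of_mem h hu.1).ord, fun _ hu _ hv => loc_prod h ha hu hv⟩,
    fun _ hu _ hv => (loc_third h ha hu hv).fst⟩

/-- A relation among neighbours is one a level lower. -/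
theorem no_rel {a : G} (ha : a ∈ conjugatesOf d) {l : List G} (hnd : l.Nodup)
    (hm : ∀ x ∈ l, x ∈ nbrs (conjugatesOf d) a) (hco : ∀ x ∈ l, ∀ y ∈ l, Commute x y)
    (hk : NoRel (Db (conjugatesOf d) a) l.length) : l.prod ≠ 1 ∧ l.prod ≠ a := by
  suffices ¬ (l.prod = 1 ∨ l.prod = a) by rwa [not_or] at this
  intro hp
  obtain ⟨z, ez⟩ : ∃ z : ↥(Hd (conjugatesOf d) a), z =
      (l.attach.map fun u => (⟨u.1, Subgroup.subset_closure (hm u.1 u.2)⟩ :
        ↥(Hd (conjugatesOf d) a))).prod := ⟨_, rfl⟩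
  have hzv : (z : G) = l.prod := by
    rw [ez, Subgroup.val_list_prod, List.map_map]
    exact congrArg List.prod (List.attach_map_subtype_val l)
  refine hk (l.attach.map fun u => bar (hm u.1 u.2)) ?_ (by simp) ?_ ?_ ?_
  · exact (List.nodup_attach.2 hnd).map fun u v e => Subtype.ext (loc_bar_inj h ha _ _ e)
  · intro q hq
    obtain ⟨u, -, rfl⟩ := List.mem_map.1 hq
    exact bar_mem _
  · intro q hq q' hq'
    obtain ⟨u, -, rfl⟩ := List.mem_map.1 hq
    obtain ⟨v, -, rfl⟩ := List.mem_map.1 hq'
    exact (loc_commute h ha _ _).2 (hco _ u.2 _ v.2)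
  · rw [show (l.attach.map fun u => bar (hm u.1 u.2)).prod =
        QuotientGroup.mk' (Subgroup.center ↥(Hd (conjugatesOf d) a)) z by
      rw [ez, map_list_prod, List.map_map]; rfl]
    refine (QuotientGroup.eq_one_iff z).2 (central_Hd fun y hy => ?_)
    rw [hzv]
    rcases hp with e | e <;> rw [e]
    · exact Commute.one_left y
    · exact hy.2.2

/-- No three to six distinct commuting neighbours of one member, completed by it, give `1`. -/
theorem no_rel_five {a : G} (ha : a ∈ conjugatesOf d) {l : List G} (hnd : l.Nodup)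
    (hm : ∀ x ∈ l, x ∈ nbrs (conjugatesOf d) a) (hco : ∀ x ∈ l, ∀ y ∈ l, Commute x y)
    (hlen : 2 ≤ l.length ∧ l.length ≤ 5) : l.prod ≠ 1 ∧ l.prod ≠ a := by
  refine no_rel h ha hnd hm hco ?_
  obtain ⟨h3, h4, h5⟩ := m22_noRel (loc_group h ha) (loc_m22 h ha)
  obtain e | e | e | e : l.length = 2 ∨ l.length = 3 ∨ l.length = 4 ∨ l.length = 5 := by omega
  all_goals rw [e]
  exacts [noRel_two' (loc_group h ha), h3, h4, h5]

end CfsgLib.InvChar.Fi23Inv
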