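import Cfsg.Agent.Lib.InvChar.Fi23Inv.Pair
import Cfsg.Agent.Lib.InvChar.Fi22Inv.Type

/-!
A component, with the group it generates, is of type M(23).
-/

set_option autoImplicit false
set_option linter.unusedSectionVars false

namespace CfsgLib.InvChar.Fi23Inv

open CfsgLib.Trans3 CfsgLib.Trans3.Fi
open CfsgLib.InvChar.Fi22Inv (Adj Comp adj_symm comp_mem comp_symm map_center_equiv compSet)

theorem quot_center_image {A B : Type*} [Group A] [Group B] (f : A →* B) (hf : Function.Injective f)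
    {S : Set A} {S' : Set B} (hS : f '' S = S') :
    ∃ ψ : (↥(Subgroup.closure S) ⧸ Subgroup.center ↥(Subgroup.closure S)) ≃*
        (↥(Subgroup.closure S') ⧸ Subgroup.center ↥(Subgroup.closure S')),
      ψ '' ((QuotientGroup.mk : ↥(Subgroup.closure S) → _) '' {x | (x : A) ∈ S}) =
        (QuotientGroup.mk : ↥(Subgroup.closure S') → _) '' {x | (x : B) ∈ S'} := by
  subst hS
  let e : ↥(Subgroup.closure S) ≃* ↥(Subgroup.closure (f '' S)) :=
    ((Subgroup.closure S).equivMapOfInjective f hf).trans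
      (MulEquiv.subgroupCongr (MonoidHom.map_closure f S))
  refine ⟨QuotientGroup.congr _ _ e (map_center_equiv e), ?_⟩
  have he : ∀ x, ((e x : ↥(Subgroup.closure (f '' S))) : B) = f x := fun _ => rfl
  ext q
  constructor
  · rintro ⟨_, ⟨x, hx, rfl⟩, rfl⟩
    exact ⟨e x, by rw [Set.mem_ofPred_eq, he]; exact ⟨_, hx, rfl⟩, rfl⟩
  · rintro ⟨y, hy, rfl⟩
    obtain ⟨x, rfl⟩ := e.surjective y
    refine ⟨_, ⟨x, ?_, rfl⟩, rfl⟩
    obtain ⟨u, hu, e'⟩ := hy
    rw [Set.mem_ofPred_eq, ← hf ((he x) ▸ e' : f u = f x)]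
    exact hu

variable {G : Type*} [Group G] [Finite G] {d : G} (h : Cen d)
include h

theorem comp_group {a : G} (ha : a ∈ conjugatesOf d) :
    Cfsg.IsThreeTranspositionGroup (compSet d a) := by
  refine ⟨⟨fun x hx => ?_, fun x hx y hy => ?_⟩, fun g x hx => comp_stable h ha g.2 hx, ?_⟩
  · rw [← Subgroup.orderOf_coe]; exact (cen_of_mem h (comp_mem ha hx)).ord
  · rcases comp_prod h ha hx hy with e | e
    · exact Or.inl (Subtype.ext e)
    · exact Or.inr (Subtype.ext e)
  · exact Subgroup.closure_closure_coe_preimage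

theorem comp_conjugates {a : G} (ha : a ∈ conjugatesOf d) :
    compSet d a = conjugatesOf (⟨a, Subgroup.subset_closure .refl⟩ : ↥(Subgroup.closure (Comp d a))) := by
  ext x
  constructor
  · intro hx
    obtain ⟨g, hg, e⟩ := comp_trans h ha .refl hx
    exact isConj_iff.2 ⟨⟨g, hg⟩, Subtype.ext e⟩
  · intro hx
    obtain ⟨g, rfl⟩ := isConj_iff.1 (show IsConj _ x from hx)
    exact comp_stable h ha g.2 .refl

theorem comp_prim {a : G} (ha : a ∈ conjugatesOf d) : Cfsg.IsPrimitiveUnderConj (compSet d a) := by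
  obtain ⟨c, hc, hac⟩ := exists_opposite h ha
  refine ⟨fun x hx y hy => ?_, ⟨⟨a, Subgroup.subset_closure .refl⟩, .refl,
    ⟨c, Subgroup.subset_closure hc⟩, hc, fun e => hac ?_⟩,
    fun B hB hblock => or_iff_not_imp_left.2 fun hns => ?_⟩
  · obtain ⟨g, hg, e⟩ := comp_trans h ha hx hy
    exact ⟨⟨g, hg⟩, Subtype.ext e⟩
  · rw [show c = a from (congrArg Subtype.val e).symm]
  · have key : Subtype.val '' B = Comp d a := by
      refine comp_block h ha (Set.image_subset_iff.2 hB) (fun g hg => ?_) fun hs => hns ?_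
      · have e : (fun x => g * x * g⁻¹) '' (Subtype.val '' B) =
            Subtype.val '' ((fun x => (⟨g, hg⟩ : ↥(Subgroup.closure (Comp d a))) * x * ⟨g, hg⟩⁻¹) '' B) := by
          simp only [Set.image_image]; rfl
        rcases hblock ⟨g, hg⟩ with e' | e'
        · exact Or.inl (by rw [e, e'])
        · exact Or.inr (by rw [e]; exact Set.disjoint_image_of_injective Subtype.val_injective e')
      · exact fun x hx y hy => Subtype.ext (hs ⟨x, hx, rfl⟩ ⟨y, hy, rfl⟩)
    refine hB.antisymm fun x hx => ?_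
    have hx' : (x : G) ∈ Subtype.val '' B := key.symm ▸ (show (x : G) ∈ Comp d a from hx)
    obtain ⟨y, hy, e⟩ := hx'
    rwa [← Subtype.ext e]

theorem comp_m23 {a : G} (ha : a ∈ conjugatesOf d) :
    Cfsg.IsOfTypeM23 ↥(Subgroup.closure (Comp d a)) (compSet d a) := by
  obtain ⟨c, hc, hac⟩ := exists_opposite h ha
  obtain ⟨w, hw⟩ : ∃ w, w ∈ CN (conjugatesOf d) a c := by
    rcases comp_two h ha hc with e | e | ⟨b, hab, hbc⟩
    · exact absurd (e ▸ Commute.refl a) hac
    · exact absurd e.2.2 hac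
    · exact ⟨b, hab.1, hab.2.2, hbc.2.2.symm⟩
  obtain ⟨A, eA⟩ : ∃ A : ↥(Subgroup.closure (Comp d a)), A = ⟨a, Subgroup.subset_closure .refl⟩ :=
    ⟨_, rfl⟩
  obtain ⟨C, eC⟩ : ∃ C : ↥(Subgroup.closure (Comp d a)), C = ⟨c, Subgroup.subset_closure hc⟩ :=
    ⟨_, rfl⟩
  have hnb : ∀ B : ↥(Subgroup.closure (Comp d a)), (B : G) ∈ Comp d a →
      (Subgroup.closure (Comp d a)).subtype '' {y | y ∈ compSet d a ∧ y ≠ B ∧ Commute B y} =
        nbrs (conjugatesOf d) (B : G) := by
    intro B hB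
    ext y
    constructor
    · rintro ⟨x, ⟨hx, hne, hcm⟩, rfl⟩
      exact ⟨comp_mem ha hx, fun e => hne (Subtype.ext e), hcm.map (Subgroup.closure (Comp d a)).subtype⟩
    · intro hy
      have hy' : y ∈ Comp d a := hB.tail hy
      exact ⟨⟨y, Subgroup.subset_closure hy'⟩, ⟨hy', fun e => hy.2.1 (congrArg Subtype.val e),
        Subtype.ext hy.2.2.eq⟩, rfl⟩
  refine ⟨?_, A, eA ▸ .refl, C, eC ▸ hc, fun e => hac (by subst eA eC; exact congrArg Subtype.val e.eq),
    ?_, 1, one_ne_zero, ?_⟩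
  · rw [eq_bot_iff]
    intro z hz
    have hzc : ∀ x ∈ Comp d a, (z : G) * x = x * z := fun x hx =>
      (congrArg Subtype.val (Subgroup.mem_center_iff.1 hz ⟨x, Subgroup.subset_closure hx⟩)).symm
    have hza : (z : G) ∈ Hd (conjugatesOf d) a :=
      loc_Hd h ha ▸ Subgroup.mem_centralizer_singleton_iff.2 (hzc a .refl)
    have hzz : (⟨z, hza⟩ : ↥(Hd (conjugatesOf d) a)) ∈ Subgroup.center _ :=
      Subgroup.mem_center_iff.2 fun w => Subtype.ext (by
        have := congrArg Subtype.val (Subgroup.mem_center_iff.1 hz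
          ⟨w, comp_centralizer h ha .refl (Subgroup.mem_centralizer_singleton_iff.2
            (commute_Hd w.2).eq.symm)⟩)
        simpa using this)
    rcases loc_center h ha hzz with e | e
    · exact Subgroup.mem_bot.2 (Subtype.ext e)
    · exact absurd (show Commute a c from (show (z : G) = a from e) ▸ hzc c hc) hac
  · subst eA
    obtain ⟨ψ, hψ⟩ := quot_center_image (Subgroup.closure (Comp d a)).subtype
      (Subgroup.subtype_injective _) (hnb ⟨a, Subgroup.subset_closure .refl⟩ .refl)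
    refine m22_congr ψ.symm ?_ (loc_m22 h ha)
    show ψ.symm '' ((QuotientGroup.mk : ↥(Subgroup.closure (nbrs (conjugatesOf d) a)) → _) ''
      {x | (x : G) ∈ nbrs (conjugatesOf d) a}) = _
    rw [← hψ, ← Set.image_comp]
    simp
  · have hset : (Subgroup.closure (Comp d a)).subtype '' ({y | y ∈ compSet d a ∧ y ≠ A ∧ Commute A y} ∩
        {y | y ∈ compSet d a ∧ y ≠ C ∧ Commute C y}) = CN (conjugatesOf d) a c := by
      rw [Set.image_inter (Subgroup.subtype_injective _), hnb A (eA ▸ .refl), hnb C (eC ▸ hc), eA, eC]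
      show nbrs (conjugatesOf d) a ∩ nbrs (conjugatesOf d) c = _
      ext y
      exact ⟨fun ⟨⟨h1, _, h2⟩, _, _, h3⟩ => ⟨h1, h2, h3⟩, fun ⟨h1, h2, h3⟩ =>
        ⟨⟨h1, fun e => hac (e ▸ h3).symm, h2⟩, h1, fun e => hac (e ▸ h2), h3⟩⟩
    obtain ⟨φ, -⟩ := quot_center_image (Subgroup.closure (Comp d a)).subtype
      (Subgroup.subtype_injective _) hset
    exact proj_congr φ.symm (pair_group h ha (comp_mem ha hc) hac hw)

end CfsgLib.InvChar.Fi23Inv
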